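import Groth.Agent.PatchLib.Main
import Mathlib.RingTheory.Localization.BaseChange
import Mathlib.RingTheory.TensorProduct.MvPolynomial
import Mathlib.AlgebraicGeometry.Pullbacks
import Mathlib.Tactic.Group

/-!
# Quillen patching for automorphisms of a torsor trivialised by an affine cover
-/

set_option autoImplicit false
set_option backward.isDefEq.respectTransparency false
universe u

open CategoryTheory CategoryTheory.Limits MonoidalCategory CartesianMonoidalCategory AlgebraicGeometry Polynomial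
open scoped MonObj TensorProduct
open PatchLib (sub₁ cst)

attribute [-instance] CategoryTheory.Hom.commGroup

noncomputable section

namespace TorsPatchLib

variable {S : Scheme.{u}} {R : Type u} [CommRing R] (s : Spec (CommRingCat.of R) ⟶ S)

/-- `Spec C` over `S`. -/
abbrev pt (C : Type u) [CommRing C] [Algebra R C] : Over S :=
  Over.mk (Spec.map (CommRingCat.ofHom (algebraMap R C)) ≫ s)

variable {C C' C'' : Type u} [CommRing C] [CommRing C'] [CommRing C''] [Algebra R C] [Algebra R C']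
  [Algebra R C'']

/-- The morphism of an algebra map. -/
def ptm (φ : C →ₐ[R] C') : pt s C' ⟶ pt s C :=
  Over.homMk (Spec.map (CommRingCat.ofHom φ.toRingHom)) (by
    show Spec.map _ ≫ Spec.map _ ≫ s = Spec.map _ ≫ s
    rw [← Spec.map_comp_assoc, ← CommRingCat.ofHom_comp]
    congr 3
    exact φ.comp_algebraMap)

theorem ptm_comp (φ : C →ₐ[R] C') (ψ : C' →ₐ[R] C'') : ptm s ψ ≫ ptm s φ = ptm s (ψ.comp φ) := by
  ext1
  show Spec.map _ ≫ Spec.map _ = Spec.map _
  rw [← Spec.map_comp]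
  rfl

theorem ptm_id : ptm s (AlgHom.id R C) = 𝟙 (pt s C) := by
  ext1
  show Spec.map _ = 𝟙 _
  exact Spec.map_id _

variable (R1 : Type u) [CommRing R1] [Algebra R R1]

/-- The affine description of a product. -/
def tp (C : Type u) [CommRing C] [Algebra R C] : pt s (R1 ⊗[R] C) ⟶ pt s R1 ⊗ pt s C :=
  lift (ptm s Algebra.TensorProduct.includeLeft) (ptm s Algebra.TensorProduct.includeRight)

theorem isIso_tp [Mono s] : IsIso (tp s R1 C) := by
  have h : IsPullback (Spec.map (CommRingCat.ofHom (Algebra.TensorProduct.includeLeftRingHom (R := R) (A := R1) (B := C))))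
      (Spec.map (CommRingCat.ofHom (Algebra.TensorProduct.includeRight (R := R) (A := R1) (B := C)).toRingHom))
      (Spec.map (CommRingCat.ofHom (algebraMap R R1))) (Spec.map (CommRingCat.ofHom (algebraMap R C))) := by
    refine IsPullback.of_iso_pullback ⟨?_⟩ (pullbackSpecIso R R1 C).symm ?_ ?_
    · exact (congrArg (· ≫ _) (pullbackSpecIso_inv_fst R R1 C)).symm.trans ((Category.assoc _ _ _).trans
        ((congrArg (_ ≫ ·) pullback.condition).trans ((Category.assoc _ _ _).symm.trans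
          (congrArg (· ≫ _) (pullbackSpecIso_inv_snd R R1 C)))))
    · exact pullbackSpecIso_inv_fst R R1 C
    · exact pullbackSpecIso_inv_snd R R1 C
  let l : (pt s R1 ⊗ pt s C).left ⟶ (pt s (R1 ⊗[R] C)).left :=
    h.lift (fst (pt s R1) (pt s C)).left (snd (pt s R1) (pt s C)).left (by
      rw [← cancel_mono s, Category.assoc, Category.assoc]
      exact (Over.w (fst (pt s R1) (pt s C))).trans (Over.w (snd (pt s R1) (pt s C))).symm)
  let L : pt s R1 ⊗ pt s C ⟶ pt s (R1 ⊗[R] C) := Over.homMk l (by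
    refine Eq.trans ?_ (Over.w (fst (pt s R1) (pt s C)))
    rw [← Over.w (ptm s (Algebra.TensorProduct.includeLeft (R := R) (S := R) (A := R1) (B := C))),
      ← Category.assoc]
    congr 1
    exact h.lift_fst _ _ _)
  have hL1 : L ≫ ptm s Algebra.TensorProduct.includeLeft = fst _ _ := Over.OverMorphism.ext (h.lift_fst _ _ _)
  have hL2 : L ≫ ptm s Algebra.TensorProduct.includeRight = snd _ _ := Over.OverMorphism.ext (h.lift_snd _ _ _)
  refine ⟨L, ?_, ?_⟩
  · refine Over.OverMorphism.ext (h.hom_ext ?_ ?_)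
    · have := congrArg Over.Hom.left (congrArg (tp s R1 C ≫ ·) hL1)
      simp only [tp, lift_fst, Over.comp_left, Category.assoc] at this
      simp only [Over.comp_left, Over.id_left, Category.assoc]
      exact this.trans (Category.id_comp _).symm
    · have := congrArg Over.Hom.left (congrArg (tp s R1 C ≫ ·) hL2)
      simp only [tp, lift_snd, Over.comp_left, Category.assoc] at this
      simp only [Over.comp_left, Over.id_left, Category.assoc]
      exact this.trans (Category.id_comp _).symm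
  · rw [tp, comp_lift, hL1, hL2, lift_fst_snd]

/-- `R1 ⊗ C[X] → (R1 ⊗ C)[X]`. -/
def polyHom (C : Type u) [CommRing C] [Algebra R C] : R1 ⊗[R] C[X] →ₐ[R] (R1 ⊗[R] C)[X] :=
  Algebra.TensorProduct.lift (cst.comp Algebra.TensorProduct.includeLeft)
    (sub₁ (cst.comp Algebra.TensorProduct.includeRight) X) fun _ _ => Commute.all _ _

/-- `(R1 ⊗ C)[X] → R1 ⊗ C[X]`. -/
def polyInv (C : Type u) [CommRing C] [Algebra R C] : (R1 ⊗[R] C)[X] →ₐ[R] R1 ⊗[R] C[X] :=
  sub₁ (Algebra.TensorProduct.map (AlgHom.id R R1) cst) (1 ⊗ₜ X)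

theorem polyHom_inv : (polyHom (R := R) R1 C).comp (polyInv (R := R) R1 C) = AlgHom.id R _ := by
  refine PatchLib.algHom_ext (fun z => ?_) (by simp [polyHom, polyInv, ← Algebra.TensorProduct.one_def])
  simp only [AlgHom.comp_apply, polyInv, PatchLib.sub₁_C, AlgHom.id_apply]
  induction z using TensorProduct.induction_on with
  | zero => simp
  | add a b ha hb => simp only [map_add, ha, hb]
  | tmul a b => simp [polyHom, ← map_mul, Algebra.TensorProduct.tmul_mul_tmul]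

theorem polyInv_hom : (polyInv (R := R) R1 C).comp (polyHom (R := R) R1 C) = AlgHom.id R _ := by
  refine Algebra.TensorProduct.ext (AlgHom.ext fun a => ?_) (PatchLib.algHom_ext (fun c => ?_) ?_)
  · simp [polyHom, polyInv]
  · simp [polyHom, polyInv]
  · simp [polyHom, polyInv]

/-- The affine description of `T1 × 𝔸¹_C`. -/
def σ (C : Type u) [CommRing C] [Algebra R C] : pt s (R1 ⊗[R] C)[X] ⟶ pt s R1 ⊗ pt s C[X] :=
  lift (ptm s (cst.comp Algebra.TensorProduct.includeLeft))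
    (ptm s (sub₁ (cst.comp Algebra.TensorProduct.includeRight) X))

theorem isIso_σ [Mono s] : IsIso (σ s R1 C) := by
  have e : σ s R1 C = ptm s (polyHom R1 C) ≫ tp s R1 C[X] := by
    rw [σ, tp, comp_lift, ptm_comp, ptm_comp]
    congr 2
    · exact AlgHom.ext fun a => by simp [polyHom]
    · exact AlgHom.ext fun a => by simp [polyHom]
  have : IsIso (ptm s (polyHom R1 C)) :=
    ⟨ptm s (polyInv R1 C), by rw [ptm_comp, polyHom_inv, ptm_id], by rw [ptm_comp, polyInv_hom, ptm_id]⟩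
  have := isIso_tp s R1 (C := C[X])
  rw [e]
  infer_instance

/-- `X ↦ c X` along `f`. -/
abbrev sc (f : C →ₐ[R] C') (c : C') : C[X] →ₐ[R] C'[X] := sub₁ (cst.comp f) (Polynomial.C c * X)

theorem σ_sc (f : C →ₐ[R] C') (c : C') :
    ptm s (sc (Algebra.TensorProduct.map (AlgHom.id R R1) f) (1 ⊗ₜ c)) ≫ σ s R1 C =
      σ s R1 C' ≫ (pt s R1 ◁ ptm s (sc f c)) := by
  rw [σ, σ, comp_lift, lift_whiskerLeft, ptm_comp, ptm_comp, ptm_comp]
  congr 2
  · exact AlgHom.ext fun a => by simp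
  · exact PatchLib.algHom_ext (fun a => by simp) (by simp)

theorem σ_zero : ptm s (sub₁ (AlgHom.id R (R1 ⊗[R] C)) 0) ≫ σ s R1 C =
    tp s R1 C ≫ (pt s R1 ◁ ptm s (sub₁ (AlgHom.id R C) 0)) := by
  rw [σ, tp, comp_lift, lift_whiskerLeft, ptm_comp, ptm_comp, ptm_comp]
  congr 2
  · exact AlgHom.ext fun a => by simp
  · exact PatchLib.algHom_ext (fun a => by simp) (by simp)

/-- The affine description of `T1 × T1 × 𝔸¹_C`. -/
def σ₂ (C : Type u) [CommRing C] [Algebra R C] :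
    pt s (R1 ⊗[R] (R1 ⊗[R] C))[X] ⟶ pt s R1 ⊗ (pt s R1 ⊗ pt s C[X]) :=
  σ s R1 (R1 ⊗[R] C) ≫ (pt s R1 ◁ σ s R1 C)

theorem isIso_σ₂ [Mono s] : IsIso (σ₂ s R1 C) := by
  have := isIso_σ s R1 (C := R1 ⊗[R] C)
  have := isIso_σ s R1 (C := C)
  unfold σ₂
  infer_instance

theorem σ₂_sc (f : C →ₐ[R] C') (c : C') :
    ptm s (sc (Algebra.TensorProduct.map (AlgHom.id R R1) (Algebra.TensorProduct.map (AlgHom.id R R1) f))
        (1 ⊗ₜ (1 ⊗ₜ c))) ≫ σ₂ s R1 C =
      σ₂ s R1 C' ≫ (pt s R1 ◁ (pt s R1 ◁ ptm s (sc f c))) := by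
  rw [σ₂, σ₂, ← Category.assoc, σ_sc, Category.assoc, Category.assoc, ← MonoidalCategory.whiskerLeft_comp,
    ← MonoidalCategory.whiskerLeft_comp, σ_sc]

theorem σ₂_zero :
    ptm s (sub₁ (AlgHom.id R (R1 ⊗[R] (R1 ⊗[R] C))) 0) ≫ σ₂ s R1 C =
      (tp s R1 (R1 ⊗[R] C) ≫ (pt s R1 ◁ tp s R1 C)) ≫
        (pt s R1 ◁ (pt s R1 ◁ ptm s (sub₁ (AlgHom.id R C) 0))) := by
  rw [σ₂, ← Category.assoc, σ_zero, Category.assoc, Category.assoc, ← MonoidalCategory.whiskerLeft_comp,
    ← MonoidalCategory.whiskerLeft_comp, σ_zero]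

section Away

variable {A B : Type u} [CommRing A] [CommRing B] [Algebra R A] [Algebra R B] [Algebra A B]
  [IsScalarTower R A B]

/-- Localisation commutes with the tensor product. -/
theorem away_tensor (r : A) [IsLocalization.Away r B] :
    letI := (Algebra.TensorProduct.map (AlgHom.id R R1) (IsScalarTower.toAlgHom R A B)).toRingHom.toAlgebra
    IsLocalization.Away ((1 : R1) ⊗ₜ[R] r) (R1 ⊗[R] B) := by
  let ψ := Algebra.TensorProduct.map (AlgHom.id R R1) (IsScalarTower.toAlgHom R A B)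
  letI := ψ.toRingHom.toAlgebra
  letI : Algebra A (R1 ⊗[R] A) := Algebra.TensorProduct.rightAlgebra
  letI : Algebra B (R1 ⊗[R] B) := Algebra.TensorProduct.rightAlgebra
  letI : Algebra A (R1 ⊗[R] B) := ((algebraMap B (R1 ⊗[R] B)).comp (algebraMap A B)).toAlgebra
  have : IsScalarTower A B (R1 ⊗[R] B) := IsScalarTower.of_algebraMap_eq fun _ => rfl
  have : IsScalarTower R (R1 ⊗[R] A) (R1 ⊗[R] B) :=
    IsScalarTower.of_algebraMap_eq fun c => (ψ.commutes c).symm
  have : IsScalarTower R1 (R1 ⊗[R] A) (R1 ⊗[R] B) := IsScalarTower.of_algebraMap_eq fun c => by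
    simp [RingHom.algebraMap_toAlgebra, ψ]
  have : IsScalarTower A (R1 ⊗[R] A) (R1 ⊗[R] B) := IsScalarTower.of_algebraMap_eq fun c => by
    simp [RingHom.algebraMap_toAlgebra, ψ]
  have : IsScalarTower R A (R1 ⊗[R] A) := IsScalarTower.of_algebraMap_eq fun c => by
    simp [RingHom.algebraMap_toAlgebra]
  have : IsScalarTower R B (R1 ⊗[R] B) := IsScalarTower.of_algebraMap_eq fun c => by
    simp [RingHom.algebraMap_toAlgebra]
  have : IsScalarTower R A (R1 ⊗[R] B) := IsScalarTower.of_algebraMap_eq fun c => by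
    rw [IsScalarTower.algebraMap_apply A B (R1 ⊗[R] B), ← IsScalarTower.algebraMap_apply R A B,
      ← IsScalarTower.algebraMap_apply]
  have hA : Algebra.IsPushout R R1 A (R1 ⊗[R] A) := inferInstance
  have hB : Algebra.IsPushout R R1 B (R1 ⊗[R] B) := inferInstance
  have hA' : Algebra.IsPushout R A R1 (R1 ⊗[R] A) := hA.symm
  have hB' : Algebra.IsPushout R B R1 (R1 ⊗[R] B) := hB.symm
  have h : Algebra.IsPushout A B (R1 ⊗[R] A) (R1 ⊗[R] B) :=
    (Algebra.IsPushout.comp_iff R A R1 (R1 ⊗[R] A)).1 hB'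
  have h' : Algebra.IsPushout A (R1 ⊗[R] A) B (R1 ⊗[R] B) := h.symm
  have := (Algebra.isLocalization_iff_isPushout (Submonoid.powers r) B).2 h'
  rwa [show Algebra.algebraMapSubmonoid (R1 ⊗[R] A) (Submonoid.powers r) =
    Submonoid.powers ((1 : R1) ⊗ₜ[R] r) from Submonoid.map_powers _ _] at this

variable {G : Over S} [GrpObj G] [LocallyOfFinitePresentation G.hom]

/-- The descent step for points. -/
theorem exists_descend_point (r : A) [IsLocalization.Away r B] (f : pt s B[X] ⟶ G)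
    (hf : ptm s (sub₁ (AlgHom.id R B) 0) ≫ f = 1) :
    ∃ (N : ℕ) (g : pt s A[X] ⟶ G), ptm s (sub₁ (AlgHom.id R A) 0) ≫ g = 1 ∧
      ptm s (sc (IsScalarTower.toAlgHom R A B) 1) ≫ g =
        ptm s (sc (AlgHom.id R B) (algebraMap A B r ^ N)) ≫ f := by
  have e1 : ptm s (IsScalarTower.toAlgHom R A B) ≫ (1 : pt s A ⟶ G) = 1 := MonObj.comp_one _
  obtain ⟨N, g, hgS, hg0, hgN⟩ := PatchLib.exists_descend r G.hom
    (Spec.map (CommRingCat.ofHom (algebraMap R A)) ≫ s)
    (1 : pt s A ⟶ G).left (Over.w (1 : pt s A ⟶ G)) f.left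
    (by
      refine (Over.w f).trans ?_
      show Spec.map _ ≫ s = Spec.map _ ≫ Spec.map _ ≫ s
      rw [← Spec.map_comp_assoc, ← CommRingCat.ofHom_comp]
      congr 3
      ext c
      simp [Polynomial.algebraMap_apply, ← IsScalarTower.algebraMap_apply])
    (by
      have h := congrArg Over.Hom.left (hf.trans e1.symm)
      simp only [Over.comp_left] at h
      refine Eq.trans ?_ h
      congr 2)
  refine ⟨N, Over.homMk g ?_, Over.OverMorphism.ext ?_, Over.OverMorphism.ext ?_⟩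
  · rw [hgS]
    show Spec.map _ ≫ Spec.map _ ≫ s = Spec.map _ ≫ s
    rw [← Spec.map_comp_assoc]
    rfl
  · refine Eq.trans ?_ hg0
    show Spec.map _ ≫ g = Spec.map _ ≫ g
    congr 2
  · have eA : CommRingCat.ofHom (sc (IsScalarTower.toAlgHom R A B) (1 : B)).toRingHom =
        CommRingCat.ofHom (mapRingHom (algebraMap A B)) := by
      congr 1
      exact Polynomial.ringHom_ext (fun c => by simp) (by simp)
    have eB : CommRingCat.ofHom (sc (AlgHom.id R B) (algebraMap A B r ^ N)).toRingHom =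
        CommRingCat.ofHom (PatchLib.scale (algebraMap A B r ^ N)) := by
      congr 1
    show Spec.map _ ≫ g = Spec.map _ ≫ f.left
    rw [eA, eB, hgN]

/-- Two points which agree at zero and after localisation agree after scaling the variable. -/
theorem exists_scale_eq (r : A) [IsLocalization.Away r B] (a b : pt s A[X] ⟶ G)
    (h0 : ptm s (sub₁ (AlgHom.id R A) 0) ≫ a = ptm s (sub₁ (AlgHom.id R A) 0) ≫ b)
    (hB : ptm s (sc (IsScalarTower.toAlgHom R A B) 1) ≫ a = ptm s (sc (IsScalarTower.toAlgHom R A B) 1) ≫ b) :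
    ∃ k : ℕ, ptm s (sc (AlgHom.id R A) (r ^ k)) ≫ a = ptm s (sc (AlgHom.id R A) (r ^ k)) ≫ b := by
  let sA := Spec.map (CommRingCat.ofHom (algebraMap R A)) ≫ s
  let D : (ULift.{u} ℕ)ᵒᵖ ⥤ Scheme.{u} := (PatchLib.scaleDiag r).op ⋙ Scheme.Spec
  let cn : Cone D := Scheme.Spec.mapCone (PatchLib.glueCocone (B := B) r).op
  have hcn : IsLimit cn := isLimitOfPreserves Scheme.Spec (PatchLib.isColimit_glueCocone r).some.op
  let t : D ⟶ (Functor.const _).obj S :=
    { app := fun i => Spec.map (CommRingCat.ofHom (Polynomial.C : A →+* A[X])) ≫ sA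
      naturality := fun i j φ => by
        show Spec.map (CommRingCat.ofHom (PatchLib.scale _)) ≫ Spec.map (CommRingCat.ofHom Polynomial.C) ≫ sA =
          (Spec.map (CommRingCat.ofHom Polynomial.C) ≫ sA) ≫ 𝟙 S
        rw [← Category.assoc, ← Spec.map_comp, Category.comp_id]
        congr 2
        ext c; simp [PatchLib.scale] }
  have : ∀ {i j : (ULift.{u} ℕ)ᵒᵖ} (φ : i ⟶ j), IsAffineHom (D.map φ) := fun φ =>
    inferInstanceAs (IsAffineHom (Spec.map _))
  have : ∀ i, CompactSpace (D.obj i) := fun i => inferInstanceAs (CompactSpace (Spec _))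
  have : ∀ i, QuasiSeparatedSpace (D.obj i) := fun i => inferInstanceAs (QuasiSeparatedSpace (Spec _))
  have hS : ∀ (a : pt s A[X] ⟶ G), Spec.map (CommRingCat.ofHom (Polynomial.C : A →+* A[X])) ≫ sA = a.left ≫ G.hom := by
    intro a
    refine Eq.trans ?_ (Over.w a).symm
    show Spec.map _ ≫ Spec.map _ ≫ s = Spec.map _ ≫ s
    rw [← Spec.map_comp_assoc]
    rfl
  obtain ⟨⟨⟨k⟩⟩, hk, heq⟩ := Scheme.exists_hom_comp_eq_comp_of_locallyOfFiniteType D t G.hom cn hcn
    (i := Opposite.op ⟨0⟩) a.left b.left (hS a) (hS b) (by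
      show Spec.map (CommRingCat.ofHom (PatchLib.glueι (B := B) r 0)) ≫ a.left =
        Spec.map (CommRingCat.ofHom (PatchLib.glueι (B := B) r 0)) ≫ b.left
      refine PatchLib.hom_ext (PatchLib.isMilnor_glue (A := A) (B := B)) ?_ ?_
      · rw [← Spec.map_comp_assoc, ← Spec.map_comp_assoc]
        erw [← CommRingCat.ofHom_comp]
        rw [PatchLib.glueFst_glueι]
        have h := congrArg Over.Hom.left h0
        have e : CommRingCat.ofHom (sub₁ (AlgHom.id R A) 0).toRingHom = CommRingCat.ofHom (evalRingHom (0 : A)) := by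
          congr 1
        simp only [Over.comp_left] at h
        change Spec.map _ ≫ a.left = Spec.map _ ≫ b.left at h
        rw [e] at h
        exact h
      · rw [← Spec.map_comp_assoc, ← Spec.map_comp_assoc]
        erw [← CommRingCat.ofHom_comp]
        rw [PatchLib.glueSnd_glueι]
        have h := congrArg Over.Hom.left hB
        have e : CommRingCat.ofHom (sc (IsScalarTower.toAlgHom R A B) (1 : B)).toRingHom =
            CommRingCat.ofHom (eval₂RingHom ((Polynomial.C : B →+* B[X]).comp (algebraMap A B))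
              (Polynomial.C (IsLocalization.Away.invSelf r ^ 0 : B) * X)) := by
          congr 1
          exact Polynomial.ringHom_ext (fun c => by simp) (by simp)
        simp only [Over.comp_left] at h
        change Spec.map _ ≫ a.left = Spec.map _ ≫ b.left at h
        rw [e] at h
        exact h)
  refine ⟨k, Over.OverMorphism.ext ?_⟩
  have e : CommRingCat.ofHom (sc (AlgHom.id R A) (r ^ k)).toRingHom =
      CommRingCat.ofHom (PatchLib.scale (r ^ (k - 0))) := by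
    congr 1
  show Spec.map _ ≫ a.left = Spec.map _ ≫ b.left
  rw [e]
  exact heq

end Away

/-! ### Automorphisms of a torsor trivialised on `Spec R1` -/

variable {R1} {G : Over S} [GrpObj G] (d : pt s R1 ⊗ pt s R1 ⟶ G)

/-- The cocycle condition. -/
def IsAutC {W : Over S} (k : pt s R1 ⊗ W ⟶ G) : Prop :=
  ∀ {T : Over S} (t t' : T ⟶ pt s R1) (v : T ⟶ W),
    lift t' v ≫ k = (lift t t' ≫ d) * (lift t v ≫ k) * (lift t t' ≫ d)⁻¹

/-- The two sides of the cocycle condition. -/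
def side (d : pt s R1 ⊗ pt s R1 ⟶ G) {W : Over S} (k : pt s R1 ⊗ W ⟶ G) :
    pt s R1 ⊗ (pt s R1 ⊗ W) ⟶ G :=
  (lift (fst _ _) (snd _ _ ≫ fst _ _) ≫ d) * (lift (fst _ _) (snd _ _ ≫ snd _ _) ≫ k) *
    (lift (fst _ _) (snd _ _ ≫ fst _ _) ≫ d)⁻¹

variable {s} {d}

theorem isAutC_iff {W : Over S} (k : pt s R1 ⊗ W ⟶ G) :
    IsAutC s d k ↔ snd (pt s R1) (pt s R1 ⊗ W) ≫ k = side s d k := by
  constructor
  · intro h
    have h1 := h (fst (pt s R1) (pt s R1 ⊗ W)) (snd _ _ ≫ fst _ _) (snd _ _ ≫ snd _ _)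
    rw [← comp_lift, lift_fst_snd, Category.comp_id] at h1
    exact h1
  · intro h T t t' v
    have h1 := congrArg (lift t (lift t' v) ≫ ·) h
    simpa [side, MonObj.comp_mul, GrpObj.comp_inv, comp_lift_assoc] using h1

theorem side_pull {W W' : Over S} (f : W' ⟶ W) (k : pt s R1 ⊗ W ⟶ G) :
    (pt s R1 ◁ (pt s R1 ◁ f)) ≫ side s d k = side s d ((pt s R1 ◁ f) ≫ k) := by
  simp [side, MonObj.comp_mul, GrpObj.comp_inv, comp_lift_assoc, lift_whiskerLeft_assoc]

theorem side_one {W : Over S} : side s d (1 : pt s R1 ⊗ W ⟶ G) = 1 := by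
  rw [side, MonObj.comp_one, _root_.mul_one, mul_inv_cancel]

theorem snd_pull {W W' : Over S} (f : W' ⟶ W) (k : pt s R1 ⊗ W ⟶ G) :
    (pt s R1 ◁ (pt s R1 ◁ f)) ≫ snd (pt s R1) (pt s R1 ⊗ W) ≫ k =
      snd (pt s R1) (pt s R1 ⊗ W') ≫ (pt s R1 ◁ f) ≫ k := by
  rw [whiskerLeft_snd_assoc]

theorem IsAutC.one {W : Over S} : IsAutC s d (1 : pt s R1 ⊗ W ⟶ G) := fun t t' v => by
  rw [MonObj.comp_one, MonObj.comp_one, _root_.mul_one, mul_inv_cancel]

theorem IsAutC.mul {W : Over S} {k k' : pt s R1 ⊗ W ⟶ G} (hk : IsAutC s d k) (hk' : IsAutC s d k') :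
    IsAutC s d (k * k') := fun t t' v => by
  rw [MonObj.comp_mul, MonObj.comp_mul, hk t t' v, hk' t t' v]
  group

theorem IsAutC.inv {W : Over S} {k : pt s R1 ⊗ W ⟶ G} (hk : IsAutC s d k) : IsAutC s d k⁻¹ := fun t t' v => by
  rw [GrpObj.comp_inv, GrpObj.comp_inv, hk t t' v]
  group

theorem IsAutC.pull {W W' : Over S} {k : pt s R1 ⊗ W ⟶ G} (hk : IsAutC s d k) (f : W' ⟶ W) :
    IsAutC s d ((pt s R1 ◁ f) ≫ k) := fun t t' v => by
  rw [lift_whiskerLeft_assoc, lift_whiskerLeft_assoc]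
  exact hk t t' (v ≫ f)

/-- Pullback along an algebra map. -/
abbrev pl (φ : C →ₐ[R] C') (k : pt s R1 ⊗ pt s C ⟶ G) : pt s R1 ⊗ pt s C' ⟶ G := (pt s R1 ◁ ptm s φ) ≫ k

theorem pl_mul (φ : C →ₐ[R] C') (k k' : pt s R1 ⊗ pt s C ⟶ G) : pl φ (k * k') = pl φ k * pl φ k' :=
  MonObj.comp_mul _ _ _

theorem pl_inv (φ : C →ₐ[R] C') (k : pt s R1 ⊗ pt s C ⟶ G) : pl φ k⁻¹ = (pl φ k)⁻¹ := GrpObj.comp_inv _ _

theorem pl_one (φ : C →ₐ[R] C') : pl φ (1 : pt s R1 ⊗ pt s C ⟶ G) = 1 := MonObj.comp_one _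

theorem pl_pl (φ : C →ₐ[R] C') (ψ : C' →ₐ[R] C'') (k : pt s R1 ⊗ pt s C ⟶ G) :
    pl ψ (pl φ k) = pl (ψ.comp φ) k := by
  rw [pl, pl, pl, ← Category.assoc, ← MonoidalCategory.whiskerLeft_comp, ptm_comp]

theorem pl_id (k : pt s R1 ⊗ pt s C ⟶ G) : pl (AlgHom.id R C) k = k := by
  rw [pl, ptm_id, MonoidalCategory.whiskerLeft_id, Category.id_comp]

variable [LocallyOfFinitePresentation G.hom] [Mono s]

/-- The descent step for automorphisms. -/
theorem exists_descend_aut {A B : Type u} [CommRing A] [CommRing B] [Algebra R A] [Algebra R B] [Algebra A B]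
    [IsScalarTower R A B] (r : A) [IsLocalization.Away r B] (φ : pt s R1 ⊗ pt s B[X] ⟶ G) (hφ : IsAutC s d φ)
    (h0 : pl (sub₁ (AlgHom.id R B) 0) φ = 1) :
    ∃ (N : ℕ) (g : pt s R1 ⊗ pt s A[X] ⟶ G), IsAutC s d g ∧ pl (sub₁ (AlgHom.id R A) 0) g = 1 ∧
      pl (sub₁ (cst.comp (IsScalarTower.toAlgHom R A B)) (X : B[X])) g =
        pl (sub₁ cst (Polynomial.C (algebraMap A B r ^ N) * X)) φ := by
  let ψ := Algebra.TensorProduct.map (AlgHom.id R R1) (IsScalarTower.toAlgHom R A B)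
  let ψ₂ := Algebra.TensorProduct.map (AlgHom.id R R1) ψ
  letI := ψ.toRingHom.toAlgebra
  letI := ψ₂.toRingHom.toAlgebra
  have : IsScalarTower R (R1 ⊗[R] A) (R1 ⊗[R] B) := IsScalarTower.of_algebraMap_eq fun c => (ψ.commutes c).symm
  have : IsScalarTower R (R1 ⊗[R] (R1 ⊗[R] A)) (R1 ⊗[R] (R1 ⊗[R] B)) :=
    IsScalarTower.of_algebraMap_eq fun c => (ψ₂.commutes c).symm
  have hψ : IsScalarTower.toAlgHom R (R1 ⊗[R] A) (R1 ⊗[R] B) = ψ := AlgHom.ext fun _ => rfl
  have hψ₂ : IsScalarTower.toAlgHom R (R1 ⊗[R] (R1 ⊗[R] A)) (R1 ⊗[R] (R1 ⊗[R] B)) = ψ₂ :=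
    AlgHom.ext fun _ => rfl
  have : IsLocalization.Away ((1 : R1) ⊗ₜ[R] r) (R1 ⊗[R] B) := away_tensor R1 r
  have : IsLocalization.Away ((1 : R1) ⊗ₜ[R] ((1 : R1) ⊗ₜ[R] r)) (R1 ⊗[R] (R1 ⊗[R] B)) := by
    have h := away_tensor (R := R) R1 (A := R1 ⊗[R] A) (B := R1 ⊗[R] B) ((1 : R1) ⊗ₜ[R] r)
    exact h
  haveI := isIso_σ s R1 (C := A)
  haveI := isIso_σ s R1 (C := B)
  haveI := isIso_σ₂ s R1 (C := A)
  haveI := isIso_σ₂ s R1 (C := B)
  obtain ⟨N, g, hg0, hgN⟩ := exists_descend_point s (A := R1 ⊗[R] A) (B := R1 ⊗[R] B) ((1 : R1) ⊗ₜ[R] r)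
    (σ s R1 B ≫ φ) (by
      rw [← Category.assoc, σ_zero, Category.assoc]
      exact (congrArg (tp s R1 B ≫ ·) h0).trans (MonObj.comp_one _))
  have hr : algebraMap (R1 ⊗[R] A) (R1 ⊗[R] B) ((1 : R1) ⊗ₜ[R] r) ^ N = (1 : R1) ⊗ₜ[R] (algebraMap A B r ^ N) := by
    show ψ ((1 : R1) ⊗ₜ[R] r) ^ N = _
    simp [ψ, Algebra.TensorProduct.tmul_pow]
  rw [hψ, hr] at hgN
  let g₁ := inv (σ s R1 A) ≫ g
  have hg₁0 : pl (sub₁ (AlgHom.id R A) 0) g₁ = 1 := by
    haveI := isIso_tp s R1 (C := A)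
    rw [← cancel_epi (tp s R1 A), MonObj.comp_one, pl, ← Category.assoc, ← σ_zero, Category.assoc,
      IsIso.hom_inv_id_assoc, hg0]
  have e1 : sub₁ (cst.comp (IsScalarTower.toAlgHom R A B)) (X : B[X]) = sc (IsScalarTower.toAlgHom R A B) 1 := by
    simp [sc]
  have hg₁N : pl (sc (IsScalarTower.toAlgHom R A B) 1) g₁ = pl (sc (AlgHom.id R B) (algebraMap A B r ^ N)) φ := by
    have eL : ∀ (f : A →ₐ[R] B) (c : B) (k : pt s R1 ⊗ pt s A[X] ⟶ G), σ s R1 B ≫ pl (sc f c) k =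
        ptm s (sc (Algebra.TensorProduct.map (AlgHom.id R R1) f) ((1 : R1) ⊗ₜ c)) ≫ σ s R1 A ≫ k := fun f c k => by
      rw [pl, ← Category.assoc, ← σ_sc, Category.assoc]
    have eR : σ s R1 B ≫ pl (sc (AlgHom.id R B) (algebraMap A B r ^ N)) φ =
        ptm s (sc (AlgHom.id R (R1 ⊗[R] B)) ((1 : R1) ⊗ₜ (algebraMap A B r ^ N))) ≫ σ s R1 B ≫ φ := by
      rw [pl, ← Category.assoc, ← σ_sc, Category.assoc, Algebra.TensorProduct.map_id]
    rw [← cancel_epi (σ s R1 B), eL, eR, IsIso.hom_inv_id_assoc]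
    exact hgN
  have hφN : IsAutC s d (pl (sc (AlgHom.id R B) (algebraMap A B r ^ N)) φ) := hφ.pull _
  obtain ⟨k, hk⟩ := exists_scale_eq s (A := R1 ⊗[R] (R1 ⊗[R] A)) (B := R1 ⊗[R] (R1 ⊗[R] B))
    ((1 : R1) ⊗ₜ[R] ((1 : R1) ⊗ₜ[R] r)) (σ₂ s R1 A ≫ snd _ _ ≫ g₁) (σ₂ s R1 A ≫ side s d g₁) (by
      rw [← Category.assoc (ptm s _) (σ₂ s R1 A), ← Category.assoc (ptm s _) (σ₂ s R1 A), σ₂_zero]
      simp only [Category.assoc, snd_pull, side_pull]
      have h : (pt s R1 ◁ ptm s (sub₁ (AlgHom.id R A) 0)) ≫ g₁ = 1 := hg₁0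
      simp only [h, side_one, MonObj.comp_one]) (by
      rw [hψ₂, ← Category.assoc (ptm s _) (σ₂ s R1 A), ← Category.assoc (ptm s _) (σ₂ s R1 A),
        show (1 : R1 ⊗[R] (R1 ⊗[R] B)) = (1 : R1) ⊗ₜ[R] ((1 : R1) ⊗ₜ[R] (1 : B)) from rfl, σ₂_sc,
        Category.assoc, Category.assoc, snd_pull, side_pull]
      have h := (isAutC_iff _).1 (show IsAutC s d (pl (sc (IsScalarTower.toAlgHom R A B) 1) g₁) from hg₁N ▸ hφN)
      exact congrArg (σ₂ s R1 B ≫ ·) h)
  have hk' : ((1 : R1) ⊗ₜ[R] ((1 : R1) ⊗ₜ[R] r)) ^ k = (1 : R1) ⊗ₜ[R] ((1 : R1) ⊗ₜ[R] (r ^ k)) := by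
    simp [Algebra.TensorProduct.tmul_pow]
  rw [hk', ← Category.assoc (ptm s _) (σ₂ s R1 A), ← Category.assoc (ptm s _) (σ₂ s R1 A),
    show AlgHom.id R (R1 ⊗[R] (R1 ⊗[R] A)) = Algebra.TensorProduct.map (AlgHom.id R R1)
      (Algebra.TensorProduct.map (AlgHom.id R R1) (AlgHom.id R A)) by
      rw [Algebra.TensorProduct.map_id, Algebra.TensorProduct.map_id],
    σ₂_sc, Category.assoc, Category.assoc, snd_pull, side_pull, cancel_epi] at hk
  refine ⟨N + k, pl (sc (AlgHom.id R A) (r ^ k)) g₁, (isAutC_iff _).2 hk, ?_, ?_⟩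
  · rw [pl_pl, show (sub₁ (AlgHom.id R A) 0).comp (sc (AlgHom.id R A) (r ^ k)) = sub₁ (AlgHom.id R A) 0 from
      PatchLib.algHom_ext (fun c => by simp) (by simp), hg₁0]
  · rw [pl_pl, e1, show (sc (IsScalarTower.toAlgHom R A B) 1).comp (sc (AlgHom.id R A) (r ^ k)) =
      (sc (AlgHom.id R B) (algebraMap A B r ^ k)).comp (sc (IsScalarTower.toAlgHom R A B) 1) from
      PatchLib.algHom_ext (fun c => by simp) (by simp), ← pl_pl, hg₁N, pl_pl]
    congr 1
    refine PatchLib.algHom_ext (fun c => by simp) ?_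
    simp [pow_add]
    ring

/-- **Quillen patching** for automorphisms of a torsor. -/
theorem exists_aut_mul {Q : Type u} [CommRing Q] [Algebra R Q] {r r' : Q}
    (hrr : Ideal.span ({r, r'} : Set Q) = ⊤)
    (A A' B : Type u) [CommRing A] [CommRing A'] [CommRing B] [Algebra R A] [Algebra R A'] [Algebra R B]
    [Algebra Q A] [Algebra Q A'] [Algebra Q B] [IsScalarTower R Q A] [IsScalarTower R Q A'] [IsScalarTower R Q B]
    [IsLocalization.Away r A] [IsLocalization.Away r' A'] [IsLocalization.Away (r * r') B]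
    [Algebra A B] [Algebra A' B] [IsScalarTower R A B] [IsScalarTower R A' B]
    [IsScalarTower Q A B] [IsScalarTower Q A' B]
    (g : pt s R1 ⊗ pt s B[X] ⟶ G) (hga : IsAutC s d g) (hg : pl (sub₁ (AlgHom.id R B) 0) g = 1) :
    ∃ (g₁ : pt s R1 ⊗ pt s A[X] ⟶ G) (g₂ : pt s R1 ⊗ pt s A'[X] ⟶ G), IsAutC s d g₁ ∧ IsAutC s d g₂ ∧
      g = pl (sub₁ (cst.comp (IsScalarTower.toAlgHom R A B)) (X : B[X])) g₁ *
        pl (sub₁ (cst.comp (IsScalarTower.toAlgHom R A' B)) (X : B[X])) g₂ := by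
  letI : Algebra A[X] B[X] := (mapRingHom (algebraMap A B)).toAlgebra
  letI : Algebra A'[X] B[X] := (mapRingHom (algebraMap A' B)).toAlgebra
  have : IsScalarTower R A[X] B[X] := IsScalarTower.of_algebraMap_eq fun c => by
    simp [RingHom.algebraMap_toAlgebra, Polynomial.algebraMap_apply, ← IsScalarTower.algebraMap_apply]
  have : IsScalarTower R A'[X] B[X] := IsScalarTower.of_algebraMap_eq fun c => by
    simp [RingHom.algebraMap_toAlgebra, Polynomial.algebraMap_apply, ← IsScalarTower.algebraMap_apply]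
  have hA : IsLocalization.Away (algebraMap Q A r') B := PatchLib.away_of_mul r r'
  have hA' : IsLocalization.Away (algebraMap Q A' r) B := by
    have : IsLocalization.Away (r' * r) B := by rw [mul_comm]; infer_instance
    exact PatchLib.away_of_mul r' r
  have : IsLocalization.Away (C (algebraMap Q A r') : A[X]) B[X] := by
    have := Polynomial.isLocalization (Submonoid.powers (algebraMap Q A r')) B
    rwa [Submonoid.map_powers] at this
  have : IsLocalization.Away (C (algebraMap Q A' r) : A'[X]) B[X] := by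
    have := Polynomial.isLocalization (Submonoid.powers (algebraMap Q A' r)) B
    rwa [Submonoid.map_powers] at this
  let φ : pt s R1 ⊗ pt s B[X][X] ⟶ G :=
    pl (sub₁ ((cst (S := B[X])).comp cst) (C X + X)) g *
      (pl ((cst (R := R) (S := B[X])).comp (AlgHom.id R B[X])) g)⁻¹
  have hφa : IsAutC s d φ := IsAutC.mul (hga.pull _) (IsAutC.inv (hga.pull _))
  have hφ0 : pl (sub₁ (AlgHom.id R B[X]) 0) φ = 1 := by
    rw [pl_mul, pl_inv, pl_pl, pl_pl]
    rw [show (sub₁ (AlgHom.id R B[X]) 0).comp (sub₁ ((cst (S := B[X])).comp cst) (C X + X)) =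
      (sub₁ (AlgHom.id R B[X]) 0).comp ((cst (R := R) (S := B[X])).comp (AlgHom.id R B[X])) from
      PatchLib.algHom_ext (fun s => by simp) (by simp), mul_inv_cancel]
  obtain ⟨N, φ₁, hφ₁a, hφ₁0, hφ₁⟩ := exists_descend_aut (C (algebraMap Q A r') : A[X]) φ hφa hφ0
  obtain ⟨M, φ₂, hφ₂a, hφ₂0, hφ₂⟩ := exists_descend_aut (C (algebraMap Q A' r) : A'[X]) φ hφa hφ0
  have hspan : Ideal.span ({r ^ M, r' ^ N} : Set Q) = ⊤ := by
    have hco : IsCoprime r r' := by
      rw [← Ideal.isCoprime_span_singleton_iff, Ideal.isCoprime_iff_sup_eq, ← Ideal.span_union]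
      exact hrr
    obtain ⟨a, b, hab⟩ := hco.pow (m := M) (n := N)
    exact (Ideal.eq_top_iff_one _).2 (Ideal.mem_span_pair.2 ⟨a, b, hab⟩)
  obtain ⟨a, b, hab⟩ := Ideal.mem_span_pair.1 ((Ideal.eq_top_iff_one _).1 hspan)
  let θ₁ : A[X][X] →ₐ[R] A[X] :=
    sub₁ (sub₁ cst (C (algebraMap Q A (a * r ^ M)) * X)) (C (algebraMap Q A b) * X)
  let θ₂ : A'[X][X] →ₐ[R] A'[X] := sub₁ (sub₁ cst 0) (C (algebraMap Q A' a) * X)
  refine ⟨pl θ₁ φ₁, pl θ₂ φ₂, hφ₁a.pull _, hφ₂a.pull _, ?_⟩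
  let ε₁ : B[X][X] →ₐ[R] B[X] :=
    sub₁ (sub₁ cst (C (algebraMap Q B (a * r ^ M)) * X)) (C (algebraMap Q B b) * X)
  let ε₂ : B[X][X] →ₐ[R] B[X] := sub₁ (sub₁ cst 0) (C (algebraMap Q B a) * X)
  let τ : B[X] →ₐ[R] B[X] := sub₁ cst (C (algebraMap Q B (a * r ^ M)) * X)
  let σ₁ : B[X][X] →ₐ[R] B[X] :=
    ε₁.comp (sub₁ cst (C (algebraMap A[X] B[X] (C (algebraMap Q A r')) ^ N) * X))
  have h₁ : pl (sub₁ (cst.comp (IsScalarTower.toAlgHom R A B)) (X : B[X])) (pl θ₁ φ₁) =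
      g * (pl τ g)⁻¹ := by
    rw [pl_pl,
      show (sub₁ (cst.comp (IsScalarTower.toAlgHom R A B)) (X : B[X])).comp θ₁ =
        ε₁.comp (sub₁ (cst.comp (IsScalarTower.toAlgHom R A[X] B[X])) (X : B[X][X])) from
        PatchLib.algHom_ext (fun s => by
          refine DFunLike.congr_fun (PatchLib.algHom_ext
            (f := ((sub₁ (cst.comp (IsScalarTower.toAlgHom R A B)) (X : B[X])).comp θ₁).comp cst)
            (g := (ε₁.comp (sub₁ (cst.comp (IsScalarTower.toAlgHom R A[X] B[X])) (X : B[X][X]))).comp cst)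
            (fun c => ?_) ?_) s <;>
          simp [θ₁, ε₁, RingHom.algebraMap_toAlgebra, ← IsScalarTower.algebraMap_apply, map_mul, map_pow]) (by
          simp [θ₁, ε₁, ← IsScalarTower.algebraMap_apply]),
      ← pl_pl, hφ₁, pl_pl, pl_mul, pl_inv, pl_pl, pl_pl]
    have e1 : σ₁.comp (sub₁ ((cst (S := B[X])).comp cst) (C X + X)) = AlgHom.id R B[X] := by
      refine PatchLib.algHom_ext (fun s => by simp [σ₁, ε₁]) ?_
      simp [σ₁, ε₁, RingHom.algebraMap_toAlgebra, ← IsScalarTower.algebraMap_apply, -map_mul, -map_pow]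
      simp only [map_mul, map_pow, PatchLib.sub₁_C, PatchLib.sub₁_X, PatchLib.cst_apply]
      have h := congrArg (fun t => (C : B →+* B[X]) (algebraMap Q B t) * X) hab
      simp only [map_add, map_mul, map_pow, map_one] at h
      linear_combination h
    have e2 : σ₁.comp ((cst (R := R) (S := B[X])).comp (AlgHom.id R B[X])) = τ := by
      refine PatchLib.algHom_ext (fun s => ?_) ?_ <;> simp [σ₁, ε₁, τ]
    show pl (σ₁.comp _) g * (pl (σ₁.comp _) g)⁻¹ = _
    rw [e1, e2, pl_id]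
  let σ₂' : B[X][X] →ₐ[R] B[X] :=
    ε₂.comp (sub₁ cst (C (algebraMap A'[X] B[X] (C (algebraMap Q A' r)) ^ M) * X))
  have h₂ : pl (sub₁ (cst.comp (IsScalarTower.toAlgHom R A' B)) (X : B[X])) (pl θ₂ φ₂) = pl τ g := by
    rw [pl_pl,
      show (sub₁ (cst.comp (IsScalarTower.toAlgHom R A' B)) (X : B[X])).comp θ₂ =
        ε₂.comp (sub₁ (cst.comp (IsScalarTower.toAlgHom R A'[X] B[X])) (X : B[X][X])) from
        PatchLib.algHom_ext (fun s => by
          refine DFunLike.congr_fun (PatchLib.algHom_ext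
            (f := ((sub₁ (cst.comp (IsScalarTower.toAlgHom R A' B)) (X : B[X])).comp θ₂).comp cst)
            (g := (ε₂.comp (sub₁ (cst.comp (IsScalarTower.toAlgHom R A'[X] B[X])) (X : B[X][X]))).comp cst)
            (fun c => ?_) ?_) s <;>
          simp [θ₂, ε₂, RingHom.algebraMap_toAlgebra, ← IsScalarTower.algebraMap_apply]) (by
          simp [θ₂, ε₂, ← IsScalarTower.algebraMap_apply]),
      ← pl_pl, hφ₂, pl_pl, pl_mul, pl_inv, pl_pl, pl_pl]
    have e1 : σ₂'.comp (sub₁ ((cst (S := B[X])).comp cst) (C X + X)) = τ := by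
      refine PatchLib.algHom_ext (fun s => by simp [σ₂', ε₂, τ]) ?_
      simp [σ₂', ε₂, τ, RingHom.algebraMap_toAlgebra, ← IsScalarTower.algebraMap_apply, map_mul, map_pow]
      ring
    have e2 : σ₂'.comp ((cst (R := R) (S := B[X])).comp (AlgHom.id R B[X])) =
        cst.comp (sub₁ (AlgHom.id R B) 0) := by
      refine PatchLib.algHom_ext (fun s => ?_) ?_ <;> simp [σ₂', ε₂]
    show pl (σ₂'.comp _) g * (pl (σ₂'.comp _) g)⁻¹ = _
    rw [e1, e2, ← pl_pl, hg, pl_one, inv_one, _root_.mul_one]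
  rw [h₁, h₂, inv_mul_cancel_right]

end TorsPatchLib
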