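import Groth.Agent.TorsPatchLib.Geom
import Mathlib.AlgebraicGeometry.AffineSpace

/-!
# The ideal of descent of a torsor on affine space
-/

set_option autoImplicit false
set_option backward.isDefEq.respectTransparency false
set_option maxHeartbeats 400000
universe u

open CategoryTheory CategoryTheory.Limits MonoidalCategory CartesianMonoidalCategory AlgebraicGeometry
open scoped MonObj
open TorsSeqLib (act act_one act_mul comp_act)

attribute [-instance] CategoryTheory.Hom.commGroup

noncomputable section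

namespace TorsPatchLib

variable {S : Scheme.{u}} {G : Over S} [GrpObj G]

section General

variable {D : Fam G}

/-- Frames pull back from any morphism over `w`. -/
theorem exists_frame_pull {W W' : Over S} {w : W ⟶ D.A} {w' : W' ⟶ D.A} (f : W' ⟶ W) (hw : f ≫ w = w')
    (h : ∃ y, IsFrame D w y) : ∃ y, IsFrame D w' y := by
  obtain ⟨y, hy⟩ := h
  exact ⟨_, hy.pull f hw⟩

theorem exists_frame_of_isEmpty {W : Over S} (w : W ⟶ D.A) (hW : IsEmpty W.left) : ∃ y, IsFrame D w y := by
  have hT : ∀ T : Over S, (T ⟶ W) → IsEmpty T.left := fun T v => Function.isEmpty v.left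
  haveI := hT _ (snd D.T1 W)
  let y : D.T1 ⊗ W ⟶ D.X := Over.homMk (isInitialOfIsEmpty.to _) (isInitialOfIsEmpty.hom_ext _ _)
  refine ⟨y, Over.OverMorphism.ext (isInitialOfIsEmpty.hom_ext _ _), fun {T} t t' v => ?_⟩
  haveI := hT T v
  exact Over.OverMorphism.ext (isInitialOfIsEmpty.hom_ext _ _)

end General

/-- Pulling back along an endomorphism at zero. -/
theorem act_eq_self {D : Fam G} {W : Over S} {k : D.T1 ⊗ W ⟶ G} {x : D.T1 ⊗ W ⟶ D.X}
    (h : act D.a k x = x) : k = 1 :=
  D.cancel (h.trans (act_one D.a x).symm)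

section Affine

variable {n : Type u}

/-- The zero section of affine space. -/
def zsec (S : Scheme.{u}) (n : Type u) : S ⟶ 𝔸(n; S) := AffineSpace.homOfVector (𝟙 S) 0

theorem zsec_over (S : Scheme.{u}) (n : Type u) : zsec S n ≫ (𝔸(n; S) ↘ S) = 𝟙 S :=
  AffineSpace.homOfVector_over _ _

variable {R : Type u} [CommRing R] (s : Spec (CommRingCat.of R) ⟶ S) (R' : Type u) [CommRing R'] [Algebra R R']

/-- The structure map of `Spec R'`. -/
abbrev jj : Spec (CommRingCat.of R') ⟶ S := Spec.map (CommRingCat.ofHom (algebraMap R R')) ≫ s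

variable (n)

/-- The coordinates of `Spec R'[n]` in affine space. -/
def aQ : Spec (CommRingCat.of (MvPolynomial n R')) ⟶ 𝔸(n; S) :=
  (AffineSpace.SpecIso n (CommRingCat.of R')).inv ≫ AffineSpace.map n (jj s R')

theorem aQ_over : aQ n s R' ≫ (𝔸(n; S) ↘ S) =
    Spec.map (CommRingCat.ofHom (algebraMap R (MvPolynomial n R'))) ≫ s := by
  rw [aQ, Category.assoc, AffineSpace.map_over, ← Category.assoc, AffineSpace.SpecIso_inv_over, jj,
    ← Spec.map_comp_assoc, ← CommRingCat.ofHom_comp]
  rfl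

/-- `Spec R'[n] → 𝔸ⁿ_S` over `S`. -/
def wQ : pt s (MvPolynomial n R') ⟶ Over.mk (𝔸(n; S) ↘ S) := Over.homMk (aQ n s R') (aQ_over n s R')

theorem aQ_coord (i : n) :
    (aQ n s R').appTop (AffineSpace.coord S i) =
      (Scheme.ΓSpecIso (CommRingCat.of (MvPolynomial n R'))).inv (MvPolynomial.X i) := by
  rw [aQ, Scheme.Hom.comp_appTop, CommRingCat.comp_apply, AffineSpace.map_appTop_coord,
    AffineSpace.SpecIso_inv_appTop_coord]

/-- The endomorphism `x ↦ 0`. -/
def evz : MvPolynomial n R' →ₐ[R] MvPolynomial n R' :=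
  (MvPolynomial.aeval fun _ => (0 : MvPolynomial n R')).restrictScalars R

theorem evz_comp : (evz (R := R) n R').comp (evz n R') = evz n R' := by
  apply AlgHom.ext
  intro x
  simp only [evz, AlgHom.comp_apply, AlgHom.restrictScalars_apply]
  rw [← AlgHom.comp_apply]
  congr 1
  ext i
  simp

theorem evz_wQ : ptm s (evz n R') ≫ wQ n s R' = toUnit _ ≫ zeroPt (zsec S n) (zsec_over S n) := by
  refine Over.OverMorphism.ext ?_
  rw [toUnit_zeroPt, Over.comp_left]
  refine AffineSpace.hom_ext ?_ fun i => ?_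
  · rw [Category.assoc, Category.assoc, zsec_over, Category.comp_id]
    exact (congrArg (_ ≫ ·) (aQ_over n s R')).trans (Over.w (ptm s (evz n R')))
  · show (Spec.map (CommRingCat.ofHom (evz (R := R) n R').toRingHom) ≫ aQ n s R').appTop _ =
      ((pt s (MvPolynomial n R')).hom ≫ zsec S n).appTop _
    rw [Scheme.Hom.comp_appTop, Scheme.Hom.comp_appTop, CommRingCat.comp_apply, CommRingCat.comp_apply,
      aQ_coord, zsec, AffineSpace.homOfVector_appTop_coord, Pi.zero_apply, map_zero, ← CommRingCat.comp_apply,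
      ← Scheme.ΓSpecIso_inv_naturality, CommRingCat.comp_apply]
    simp [evz]

/-- The homotopy from `x ↦ 0` to the identity. -/
def htp : MvPolynomial n R' →ₐ[R] Polynomial (MvPolynomial n R') :=
  (MvPolynomial.aeval fun i => Polynomial.C (MvPolynomial.X i) * Polynomial.X).restrictScalars R

theorem htp_zero :
    (PatchLib.sub₁ (AlgHom.id R (MvPolynomial n R')) 0).comp (htp n R') = evz (R := R) n R' := by
  apply AlgHom.ext
  intro x
  induction x using MvPolynomial.induction_on with
  | C c => simp [htp, evz, Polynomial.algebraMap_apply, MvPolynomial.algebraMap_eq]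
  | add p q hp hq => simp only [map_add, hp, hq]
  | mul_X p i hp => simp only [map_mul, hp]; simp [htp, evz]

theorem htp_one :
    (PatchLib.sub₁ (AlgHom.id R (MvPolynomial n R')) 1).comp (htp n R') = AlgHom.id R (MvPolynomial n R') := by
  apply AlgHom.ext
  intro x
  induction x using MvPolynomial.induction_on with
  | C c => simp [htp, Polynomial.algebraMap_apply, MvPolynomial.algebraMap_eq]
  | add p q hp hq => simp only [map_add, hp, hq]
  | mul_X p i hp => simp only [map_mul, hp]; simp [htp]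

end Affine

section Loc

variable {R : Type u} [CommRing R] {Q A C : Type u} [CommRing Q] [Algebra R Q] [CommRing A] [Algebra Q A]
  [Algebra R A] [IsScalarTower R Q A] [CommRing C] [Algebra R C] (r : Q) [IsLocalization.Away r A]

/-- The extension of an algebra map to a localisation. -/
def locLift (f : Q →ₐ[R] C) (hf : IsUnit (f r)) : A →ₐ[R] C :=
  { IsLocalization.Away.lift r (g := f.toRingHom) hf with
    commutes' := fun c => by
      show IsLocalization.Away.lift r (g := f.toRingHom) hf (algebraMap R A c) = _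
      rw [IsScalarTower.algebraMap_apply R Q A, IsLocalization.Away.lift_eq r (g := f.toRingHom) hf]
      exact f.commutes c }

theorem locLift_comp (f : Q →ₐ[R] C) (hf : IsUnit (f r)) :
    (locLift (A := A) r f hf).comp (IsScalarTower.toAlgHom R Q A) = f := by
  apply AlgHom.ext
  intro x
  exact IsLocalization.Away.lift_eq r (g := f.toRingHom) hf x

include r in
theorem loc_ext {a b : A →ₐ[R] C} (h : a.comp (IsScalarTower.toAlgHom R Q A) = b.comp (IsScalarTower.toAlgHom R Q A)) :
    a = b :=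
  AlgHom.coe_ringHom_injective (IsLocalization.ringHom_ext (Submonoid.powers r) (RingHom.ext fun x => AlgHom.congr_fun h x))

end Loc

theorem mono_of_isOpenImmersion {T T' : Over S} (f : T ⟶ T') [IsOpenImmersion f.left] {Z : Over S} {a b : Z ⟶ T}
    (h : a ≫ f = b ≫ f) : a = b :=
  Over.OverMorphism.ext ((cancel_mono f.left).1 (congrArg Over.Hom.left h))

section Patch

variable {R : Type u} [CommRing R] {s : Spec (CommRingCat.of R) ⟶ S} {R1 : Type u} [CommRing R1] [Algebra R R1]
  {V0 : Scheme.{u}} {p : V0 ⟶ S} {z : S ⟶ V0} {hz : z ≫ p = 𝟙 S}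
  {X : NonAbH1.TorsorSch (Red.bc p G) Scheme.fppfPrecoverage} {x0 : pt s R1 ⟶ (fibre z hz X).X}
  {Q : Type u} [CommRing Q] [Algebra R Q] (w : pt s Q ⟶ Over.mk p)
  (ρ ρ' : Q) (hspan : Ideal.span ({ρ', ρ} : Set Q) = ⊤)
  (A A' B : Type u) [CommRing A] [CommRing A'] [CommRing B] [Algebra R A] [Algebra R A'] [Algebra R B]
  [Algebra Q A] [Algebra Q A'] [Algebra Q B] [IsScalarTower R Q A] [IsScalarTower R Q A'] [IsScalarTower R Q B]
  [IsLocalization.Away ρ A] [IsLocalization.Away ρ' A'] [IsLocalization.Away (ρ' * ρ) B]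
  [Algebra A B] [Algebra A' B] [IsScalarTower R A B] [IsScalarTower R A' B]
  [IsScalarTower Q A B] [IsScalarTower Q A' B]

omit [Algebra R Q] [CommRing Q] in
theorem range_ptm {P : Type u} [CommRing P] [Algebra R P] {C : Type u} [CommRing C] [Algebra R C]
    [Algebra P C] [IsScalarTower R P C] (t : P) [IsLocalization.Away t C] :
    Set.range (ptm s (IsScalarTower.toAlgHom R P C)).left = (PrimeSpectrum.basicOpen t : Set (PrimeSpectrum P)) :=
  PrimeSpectrum.localization_away_comap_range C t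

omit [Algebra R Q] [CommRing Q] in
theorem isOpenImmersion_ptm {P : Type u} [CommRing P] [Algebra R P] {C : Type u} [CommRing C] [Algebra R C]
    [Algebra P C] [IsScalarTower R P C] (t : P) [IsLocalization.Away t C] :
    IsOpenImmersion (ptm s (IsScalarTower.toAlgHom R P C)).left :=
  IsOpenImmersion.of_isLocalization t

include hspan in
/-- Two agreeing frames on a cover by two basic opens glue. -/
theorem glue_two (zA : pt s R1 ⊗ pt s A ⟶ push p X.X) (zA' : pt s R1 ⊗ pt s A' ⟶ push p X.X)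
    (hzA : IsFrame (fam z hz X x0) (ptm s (IsScalarTower.toAlgHom R Q A) ≫ w) zA)
    (hzA' : IsFrame (fam z hz X x0) (ptm s (IsScalarTower.toAlgHom R Q A') ≫ w) zA')
    (hagree : (pt s R1 ◁ ptm s (IsScalarTower.toAlgHom R A B)) ≫ zA =
      (pt s R1 ◁ ptm s (IsScalarTower.toAlgHom R A' B)) ≫ zA') :
    ∃ y, IsFrame (fam z hz X x0) w y := by
  let fA : pt s A ⟶ pt s Q := ptm s (IsScalarTower.toAlgHom R Q A)
  let fA' : pt s A' ⟶ pt s Q := ptm s (IsScalarTower.toAlgHom R Q A')
  let fB : pt s B ⟶ pt s Q := ptm s (IsScalarTower.toAlgHom R Q B)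
  haveI : IsOpenImmersion fA.left := isOpenImmersion_ptm ρ
  haveI : IsOpenImmersion fA'.left := isOpenImmersion_ptm ρ'
  haveI : IsOpenImmersion fB.left := isOpenImmersion_ptm (ρ' * ρ)
  have hlfA : ptm s (IsScalarTower.toAlgHom R A B) ≫ fA = fB := by
    rw [ptm_comp]
    congr 1
    exact AlgHom.ext fun c => (IsScalarTower.algebraMap_apply Q A B c).symm
  have hlfA' : ptm s (IsScalarTower.toAlgHom R A' B) ≫ fA' = fB := by
    rw [ptm_comp]
    congr 1
    exact AlgHom.ext fun c => (IsScalarTower.algebraMap_apply Q A' B c).symm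
  have cross : ∀ (T : Over S) (t : T ⟶ pt s R1) (a : T ⟶ pt s A) (b : T ⟶ pt s A'), a ≫ fA = b ≫ fA' →
      lift t a ≫ zA = lift t b ≫ zA' := by
    intro T t a b hab
    have hrange : Set.range (a ≫ fA).left ⊆ Set.range fB.left := by
      rintro _ ⟨x, rfl⟩
      have h1 : (a ≫ fA).left x ∈ Set.range fA.left := ⟨a.left x, rfl⟩
      have h2 : (a ≫ fA).left x ∈ Set.range fA'.left := by rw [hab]; exact ⟨b.left x, rfl⟩
      rw [range_ptm ρ] at h1
      rw [range_ptm ρ'] at h2
      rw [range_ptm (ρ' * ρ), PrimeSpectrum.basicOpen_mul]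
      exact ⟨h2, h1⟩
    let b0 : T ⟶ pt s B := Over.homMk (IsOpenImmersion.lift fB.left (a ≫ fA).left hrange) (by
      rw [← Over.w fB, ← Category.assoc, IsOpenImmersion.lift_fac]
      exact Over.w (a ≫ fA))
    have hb0 : b0 ≫ fB = a ≫ fA := Over.OverMorphism.ext (IsOpenImmersion.lift_fac _ _ _)
    have ha : a = b0 ≫ ptm s (IsScalarTower.toAlgHom R A B) :=
      mono_of_isOpenImmersion fA (by rw [Category.assoc, hlfA, hb0])
    have hb : b = b0 ≫ ptm s (IsScalarTower.toAlgHom R A' B) :=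
      mono_of_isOpenImmersion fA' (by rw [Category.assoc, hlfA', hb0, hab])
    have h := congrArg (lift t b0 ≫ ·) hagree
    simp only [lift_whiskerLeft_assoc] at h
    rw [ha, hb]
    exact h
  have hcov : ∀ x : (pt s Q).left, x ∈ Set.range fA.left ∨ x ∈ Set.range fA'.left := by
    intro x
    rw [range_ptm ρ, range_ptm ρ']
    by_contra hx
    obtain ⟨h1, h2⟩ := not_or.1 hx
    change ¬ ρ ∉ PrimeSpectrum.asIdeal x at h1
    change ¬ ρ' ∉ PrimeSpectrum.asIdeal x at h2
    rw [not_not] at h1 h2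
    apply (PrimeSpectrum.isPrime x).ne_top
    rw [← top_le_iff, ← hspan, Ideal.span_le]
    rintro c hc
    rcases hc with rfl | rfl
    · exact h2
    · exact h1
  let f : ∀ i : ULift.{u} Bool, (if i.down then pt s A else pt s A') ⟶ pt s Q := fun
    | ⟨true⟩ => fA
    | ⟨false⟩ => fA'
  haveI : ∀ i, IsOpenImmersion (f i).left := fun
    | ⟨true⟩ => inferInstanceAs (IsOpenImmersion fA.left)
    | ⟨false⟩ => inferInstanceAs (IsOpenImmersion fA'.left)
  refine glue_frame (D := fam z hz X x0) f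
    (fun x => (hcov x).elim (fun h => ⟨⟨true⟩, h⟩) fun h => ⟨⟨false⟩, h⟩)
    (fun i => match i with
      | ⟨true⟩ => zA
      | ⟨false⟩ => zA') ?_ ?_
  · rintro ⟨_ | _⟩
    · exact hzA'
    · exact hzA
  · rintro ⟨_ | _⟩ ⟨_ | _⟩ T t a b hab
    · have : a = b := mono_of_isOpenImmersion fA' hab
      rw [this]
    · exact (cross T t b a hab.symm).symm
    · exact cross T t a b hab
    · have : a = b := mono_of_isOpenImmersion fA hab
      rw [this]

variable (e : Q →ₐ[R] Q) (hee : e.comp e = e) (hew : ptm s e ≫ w = toUnit _ ≫ zeroPt z hz)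
  (H : Q →ₐ[R] Polynomial Q) (hH0 : (PatchLib.sub₁ (AlgHom.id R Q) 0).comp H = e)
  (hH1 : (PatchLib.sub₁ (AlgHom.id R Q) 1).comp H = AlgHom.id R Q)

omit [CommRing A'] [Algebra R A'] [Algebra Q A'] in
include hee hew in
theorem exists_endo (E : Type u) [CommRing E] [Algebra Q E] [Algebra R E] [IsScalarTower R Q E] (t : Q)
    (ht : e t = t) [IsLocalization.Away t E] :
    ∃ l : E →ₐ[R] E, l.comp (IsScalarTower.toAlgHom R Q E) = (IsScalarTower.toAlgHom R Q E).comp e ∧
      ptm s l ≫ ptm s l = ptm s l ∧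
      ptm s l ≫ ptm s (IsScalarTower.toAlgHom R Q E) ≫ w = toUnit _ ≫ zeroPt z hz := by
  have h1 : IsUnit (((IsScalarTower.toAlgHom R Q E).comp e) t) := by
    rw [AlgHom.comp_apply, ht]; exact IsLocalization.Away.algebraMap_isUnit t
  refine ⟨locLift t _ h1, locLift_comp _ _ _, ?_, ?_⟩
  · rw [ptm_comp]
    congr 1
    refine loc_ext t ?_
    rw [AlgHom.comp_assoc, locLift_comp, ← AlgHom.comp_assoc, locLift_comp, AlgHom.comp_assoc, hee]
  · rw [← Category.assoc, ptm_comp, locLift_comp, ← ptm_comp, Category.assoc, hew, comp_toUnit_assoc]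

variable [Mono s] [LocallyOfFinitePresentation G.hom] (hρ : e ρ = ρ) (hρ' : e ρ' = ρ')
  (hHρ : H ρ = Polynomial.C ρ) (hHρ' : H ρ' = Polynomial.C ρ')

include B hspan hee hew hH0 hH1 hρ hρ' hHρ hHρ' in
/-- Frames on two basic opens generating the unit ideal give one on everything. -/
theorem patch (hA : ∃ y, IsFrame (fam z hz X x0) (ptm s (IsScalarTower.toAlgHom R Q A) ≫ w) y)
    (hA' : ∃ y, IsFrame (fam z hz X x0) (ptm s (IsScalarTower.toAlgHom R Q A') ≫ w) y) :
    ∃ y, IsFrame (fam z hz X x0) w y := by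
  obtain ⟨yA₀, hyA₀⟩ := hA
  obtain ⟨yA'₀, hyA'₀⟩ := hA'
  let lA := IsScalarTower.toAlgHom R A B
  let lA' := IsScalarTower.toAlgHom R A' B
  let ιA := IsScalarTower.toAlgHom R Q A
  let ιA' := IsScalarTower.toAlgHom R Q A'
  let ιB := IsScalarTower.toAlgHom R Q B
  have hlι : lA.comp ιA = ιB := AlgHom.ext fun c => (IsScalarTower.algebraMap_apply Q A B c).symm
  have hlι' : lA'.comp ιA' = ιB := AlgHom.ext fun c => (IsScalarTower.algebraMap_apply Q A' B c).symm
  obtain ⟨eA, heA, heA2, heAw⟩ := exists_endo (z := z) (hz := hz) w e hee hew A ρ hρ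
  obtain ⟨eA', heA', heA'2, heA'w⟩ := exists_endo (z := z) (hz := hz) w e hee hew A' ρ' hρ'
  obtain ⟨eB, heB, -, -⟩ := exists_endo (z := z) (hz := hz) w e hee hew B (ρ' * ρ)
    (by rw [map_mul, hρ, hρ'])
  obtain ⟨yA, hyA, hyA1⟩ := hyA₀.normalise (ptm s eA) heA2 heAw
  obtain ⟨yA', hyA', hyA'1⟩ := hyA'₀.normalise (ptm s eA') heA'2 heA'w
  have hyAB : IsFrame (fam z hz X x0) (ptm s ιB ≫ w) ((pt s R1 ◁ ptm s lA) ≫ yA) :=
    hyA.pull _ (by rw [← Category.assoc, ptm_comp, hlι])
  have hyA'B : IsFrame (fam z hz X x0) (ptm s ιB ≫ w) ((pt s R1 ◁ ptm s lA') ≫ yA') :=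
    hyA'.pull _ (by rw [← Category.assoc, ptm_comp, hlι'])
  obtain ⟨θ, hθ, hθy⟩ : ∃ θ : pt s R1 ⊗ pt s B ⟶ G, IsAut (fam z hz X x0) θ ∧
      act (fam z hz X x0).a θ ((pt s R1 ◁ ptm s lA) ≫ yA) = (pt s R1 ◁ ptm s lA') ≫ yA' :=
    hyAB.exists_trans hyA'B
  have hcomm : lA.comp eA = eB.comp lA := loc_ext ρ (by
    rw [AlgHom.comp_assoc, heA, ← AlgHom.comp_assoc, hlι, AlgHom.comp_assoc, hlι, heB])
  have hcomm' : lA'.comp eA' = eB.comp lA' := loc_ext ρ' (by
    rw [AlgHom.comp_assoc, heA', ← AlgHom.comp_assoc, hlι', AlgHom.comp_assoc, hlι', heB])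
  have hθ0 : pl eB θ = 1 := by
    refine act_eq_self (D := fam z hz X x0) (x := fst (pt s R1) (pt s B) ≫ (x0 ≫ inc z hz X)) ?_
    have h := congrArg ((pt s R1 ◁ ptm s eB) ≫ ·) hθy
    change (pt s R1 ◁ ptm s eB) ≫ act (fam z hz X x0).a θ _ = _ at h
    rw [comp_act] at h
    rw [← Category.assoc (pt s R1 ◁ ptm s eB), ← MonoidalCategory.whiskerLeft_comp, ptm_comp, ← hcomm, ← ptm_comp,
      MonoidalCategory.whiskerLeft_comp, Category.assoc] at h
    erw [hyA1, whiskerLeft_fst_assoc] at h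
    change _ = (pt s R1 ◁ ptm s eB) ≫ (pt s R1 ◁ ptm s lA') ≫ yA' at h
    rw [← Category.assoc (pt s R1 ◁ ptm s eB), ← MonoidalCategory.whiskerLeft_comp, ptm_comp, ← hcomm', ← ptm_comp,
      MonoidalCategory.whiskerLeft_comp, Category.assoc] at h
    erw [hyA'1, whiskerLeft_fst_assoc] at h
    exact h
  have hψu : IsUnit (((Polynomial.mapAlgHom ιB).comp H) (ρ' * ρ)) := by
    rw [AlgHom.comp_apply, map_mul H, hHρ', hHρ, ← Polynomial.C_mul]
    show IsUnit (Polynomial.map _ (Polynomial.C (ρ' * ρ)))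
    rw [Polynomial.map_C]
    exact Polynomial.isUnit_C.2 (IsLocalization.Away.algebraMap_isUnit (ρ' * ρ))
  let ψ : B →ₐ[R] Polynomial B := locLift (ρ' * ρ) _ hψu
  have hψev : ∀ (b : Q) (x : B), ιB b = x →
      ((PatchLib.sub₁ (AlgHom.id R B) x).comp ψ).comp ιB =
        ιB.comp ((PatchLib.sub₁ (AlgHom.id R Q) b).comp H) := by
    intro b x hbx
    rw [AlgHom.comp_assoc, locLift_comp, ← AlgHom.comp_assoc, ← AlgHom.comp_assoc]
    congr 1
    exact PatchLib.algHom_ext (fun c => by simp) (by simp [hbx])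
  have hψ0 : (PatchLib.sub₁ (AlgHom.id R B) 0).comp ψ = eB := by
    refine loc_ext (ρ' * ρ) ?_
    rw [hψev 0 0 (map_zero _), hH0, heB]
  have hψ1 : (PatchLib.sub₁ (AlgHom.id R B) 1).comp ψ = AlgHom.id R B := by
    refine loc_ext (ρ' * ρ) ?_
    rw [hψev 1 1 (map_one _), hH1, AlgHom.comp_id, AlgHom.id_comp]
  obtain ⟨g₁, g₂, hg₁, hg₂, hg⟩ := exists_aut_mul (s := s) (d := (fam z hz X x0).d) (Q := Q) hspan A' A B
    (pl ψ θ) (fun t t' v => (hθ.pull _) t t' v) (by rw [pl_pl, hψ0, hθ0])
  let h₁ := pl (PatchLib.sub₁ (AlgHom.id R A') 1) g₁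
  let h₂ := pl (PatchLib.sub₁ (AlgHom.id R A) 1) g₂
  have hθ12 : θ = pl lA' h₁ * pl lA h₂ := by
    have h := congrArg (pl (PatchLib.sub₁ (AlgHom.id R B) 1)) hg
    rw [pl_pl, hψ1, pl_id, pl_mul, pl_pl, pl_pl] at h
    rw [h, pl_pl, pl_pl]
    congr 2
    · exact PatchLib.algHom_ext (fun c => by simp [lA']) (by simp [lA'])
    · exact PatchLib.algHom_ext (fun c => by simp [lA]) (by simp [lA])
  refine glue_two w ρ ρ' hspan A A' B (act (fam z hz X x0).a h₂ yA) (act (fam z hz X x0).a h₁⁻¹ yA')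
    (IsFrame.act (IsAutC.pull hg₂ _) hyA) (IsFrame.act (IsAutC.inv (IsAutC.pull hg₁ _)) hyA') ?_
  show (pt s R1 ◁ ptm s lA) ≫ act (fam z hz X x0).a h₂ yA =
    (pt s R1 ◁ ptm s lA') ≫ act (fam z hz X x0).a h₁⁻¹ yA'
  rw [comp_act, comp_act, GrpObj.comp_inv]
  refine Eq.trans ?_ (congrArg (act (fam z hz X x0).a _) hθy)
  refine Eq.trans ?_ (act_mul _ _ _ _)
  have key : pl lA h₂ = (pl lA' h₁)⁻¹ * θ := by rw [hθ12, inv_mul_cancel_left]
  exact congrArg (fun k => act (fam z hz X x0).a k ((pt s R1 ◁ ptm s lA) ≫ yA)) key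

omit [Algebra A B] [Algebra A' B] [IsScalarTower R A B] [IsScalarTower R A' B]
  [IsScalarTower Q A B] [IsScalarTower Q A' B] in
include B hspan hee hew hH0 hH1 hρ hρ' hHρ hHρ' in
/-- `patch`, constructing the maps to the intersection. -/
theorem patch' (hA : ∃ y, IsFrame (fam z hz X x0) (ptm s (IsScalarTower.toAlgHom R Q A) ≫ w) y)
    (hA' : ∃ y, IsFrame (fam z hz X x0) (ptm s (IsScalarTower.toAlgHom R Q A') ≫ w) y) :
    ∃ y, IsFrame (fam z hz X x0) w y := by
  have hu : IsUnit (algebraMap Q B ρ') ∧ IsUnit (algebraMap Q B ρ) := by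
    have := IsLocalization.Away.algebraMap_isUnit (S := B) (ρ' * ρ)
    rw [map_mul] at this
    exact IsUnit.mul_iff.1 this
  let lA : A →ₐ[R] B := locLift ρ (IsScalarTower.toAlgHom R Q B) hu.2
  let lA' : A' →ₐ[R] B := locLift ρ' (IsScalarTower.toAlgHom R Q B) hu.1
  letI : Algebra A B := lA.toRingHom.toAlgebra
  letI : Algebra A' B := lA'.toRingHom.toAlgebra
  have : IsScalarTower R A B := IsScalarTower.of_algebraMap_eq fun c => (lA.commutes c).symm
  have : IsScalarTower R A' B := IsScalarTower.of_algebraMap_eq fun c => (lA'.commutes c).symm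
  have : IsScalarTower Q A B := IsScalarTower.of_algebraMap_eq fun c =>
    (AlgHom.congr_fun (locLift_comp (A := A) ρ (IsScalarTower.toAlgHom R Q B) hu.2) c).symm
  have : IsScalarTower Q A' B := IsScalarTower.of_algebraMap_eq fun c =>
    (AlgHom.congr_fun (locLift_comp (A := A') ρ' (IsScalarTower.toAlgHom R Q B) hu.1) c).symm
  exact patch w ρ ρ' hspan A A' B e hee hew H hH0 hH1 hρ hρ' hHρ hHρ' hA hA'

end Patch

variable {n : Type u} {R : Type u} [CommRing R] (s : Spec (CommRingCat.of R) ⟶ S) [IsIso s]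
  {R1 : Type u} [CommRing R1] [Algebra R R1] [LocallyOfFinitePresentation G.hom]
  (X : NonAbH1.TorsorSch (Red.bc (𝔸(n; S) ↘ S) G) Scheme.fppfPrecoverage)
  (x0 : pt s R1 ⟶ (fibre (zsec S n) (zsec_over S n) X).X)

/-- `r` is good: there is a frame over `Spec R[1/r]`. -/
def Good (r : R) : Prop :=
  HasFrame (zsec S n) (zsec_over S n) X (jj s (Localization.Away r)) x0

theorem good_zero : Good s X x0 0 := by
  have : Subsingleton (Localization.Away (0 : R)) :=
    IsLocalization.subsingleton (M := Submonoid.powers (0 : R)) (Submonoid.mem_powers 0)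
  haveI : IsEmpty (Spec (CommRingCat.of (Localization.Away (0 : R)))) :=
    inferInstanceAs (IsEmpty (PrimeSpectrum (Localization.Away (0 : R))))
  have h : IsEmpty (W0 (𝔸(n; S) ↘ S) (jj s (Localization.Away (0 : R)))).left :=
    Function.isEmpty (pullback.snd (𝔸(n; S) ↘ S) (jj s (Localization.Away (0 : R))))
  exact exists_frame_of_isEmpty (D := fam (zsec S n) (zsec_over S n) X x0)
    (w0 (𝔸(n; S) ↘ S) (jj s (Localization.Away (0 : R)))) h

theorem hasFrame_of_hom {V V' : Scheme.{u}} {j : V ⟶ S} {j' : V' ⟶ S} (h : V' ⟶ V) (hj : h ≫ j = j')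
    (hg : HasFrame (zsec S n) (zsec_over S n) X j x0) : HasFrame (zsec S n) (zsec_over S n) X j' x0 := by
  let f : W0 (𝔸(n; S) ↘ S) j' ⟶ W0 (𝔸(n; S) ↘ S) j :=
    Over.homMk (pullback.lift (pullback.fst _ j') (pullback.snd _ j' ≫ h)
      (by rw [Category.assoc, hj, pullback.condition])) (by
      show pullback.lift _ _ _ ≫ pullback.snd _ j ≫ j = _
      rw [pullback.lift_snd_assoc, Category.assoc, hj]
      rfl)
  exact exists_frame_pull (D := fam (zsec S n) (zsec_over S n) X x0) f
    (Over.OverMorphism.ext (pullback.lift_fst _ _ _)) hg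

theorem good_mul (a r : R) (hr : Good s X x0 r) : Good s X x0 (a * r) := by
  have hu : IsUnit (algebraMap R (Localization.Away (a * r)) r) :=
    isUnit_of_mul_isUnit_right (by
      rw [← map_mul]
      exact IsLocalization.Away.algebraMap_isUnit (a * r))
  refine hasFrame_of_hom s X x0
    (Spec.map (CommRingCat.ofHom (IsLocalization.Away.lift (S := Localization.Away r) r hu))) ?_ hr
  rw [← Spec.map_comp_assoc, ← CommRingCat.ofHom_comp, IsLocalization.Away.lift_comp]

theorem frame_of_hasFrame (t : R) (C : Type u) [CommRing C] [Algebra R C] {Q : Type u} [CommRing Q] [Algebra R Q]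
    (f : pt s C ⟶ pt s Q) (w : pt s Q ⟶ Over.mk (𝔸(n; S) ↘ S)) (hu : IsUnit (algebraMap R C t))
    (hg : HasFrame (zsec S n) (zsec_over S n) X (jj s (Localization.Away t)) x0) :
    ∃ y, IsFrame (fam (zsec S n) (zsec_over S n) X x0) (f ≫ w) y := by
  let g : pt s C ⟶ W0 (𝔸(n; S) ↘ S) (jj s (Localization.Away t)) :=
    Over.homMk (pullback.lift (f ≫ w).left
      (Spec.map (CommRingCat.ofHom (IsLocalization.Away.lift (S := Localization.Away t) t hu))) (by
        rw [← Spec.map_comp_assoc, ← CommRingCat.ofHom_comp, IsLocalization.Away.lift_comp]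
        exact Over.w (f ≫ w))) (by
      show pullback.lift _ _ _ ≫ pullback.snd _ _ ≫ jj s (Localization.Away t) = _
      rw [pullback.lift_snd_assoc, ← Spec.map_comp_assoc, ← CommRingCat.ofHom_comp, IsLocalization.Away.lift_comp]
      rfl)
  exact exists_frame_pull (D := fam (zsec S n) (zsec_over S n) X x0) g
    (Over.OverMorphism.ext (pullback.lift_fst _ _ _)) hg

theorem hasFrame_of_wQ (R' : Type u) [CommRing R'] [Algebra R R']
    (h : ∃ y, IsFrame (fam (zsec S n) (zsec_over S n) X x0) (wQ n s R') y) :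
    HasFrame (zsec S n) (zsec_over S n) X (jj s R') x0 := by
  let pb := (AffineSpace.isPullback_map (n := n) (jj s R')).isoPullback
  have e : (pb.inv ≫ (AffineSpace.SpecIso n (CommRingCat.of R')).hom) ≫ aQ n s R' =
      pullback.fst (𝔸(n; S) ↘ S) (jj s R') := by
    rw [aQ, Category.assoc, Iso.hom_inv_id_assoc, IsPullback.isoPullback_inv_fst]
  let g : W0 (𝔸(n; S) ↘ S) (jj s R') ⟶ pt s (MvPolynomial n R') :=
    Over.homMk (pb.inv ≫ (AffineSpace.SpecIso n (CommRingCat.of R')).hom) (by
      show _ ≫ Spec.map _ ≫ s = _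
      rw [← aQ_over, ← Category.assoc, e, pullback.condition]
      rfl)
  refine exists_frame_pull (D := fam (zsec S n) (zsec_over S n) X x0) g (w := wQ n s R') ?_ h
  refine Over.OverMorphism.ext ?_
  exact e

theorem exists_frame_wQ (r r' : R) (hr : Good s X x0 r) (hr' : Good s X x0 r') (R' : Type u) [CommRing R']
    [Algebra R R'] (h : IsUnit (algebraMap R R' (r + r'))) :
    ∃ y, IsFrame (fam (zsec S n) (zsec_over S n) X x0) (wQ n s R') y := by
  unfold Good at *
  have hspan : Ideal.span ({algebraMap R (MvPolynomial n R') r', algebraMap R (MvPolynomial n R') r} :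
      Set (MvPolynomial n R')) = ⊤ := by
    refine Ideal.eq_top_of_isUnit_mem _ (x := algebraMap R (MvPolynomial n R') (r + r')) ?_ ?_
    · rw [map_add]
      exact Ideal.add_mem _ (Ideal.subset_span (by simp)) (Ideal.subset_span (by simp))
    · rw [IsScalarTower.algebraMap_apply R R' (MvPolynomial n R')]
      exact h.map _
  refine patch' (z := zsec S n) (hz := zsec_over S n) (x0 := x0) (wQ n s R')
    (algebraMap R (MvPolynomial n R') r) (algebraMap R (MvPolynomial n R') r') hspan
    (Localization.Away (algebraMap R (MvPolynomial n R') r)) (Localization.Away (algebraMap R (MvPolynomial n R') r'))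
    (Localization.Away (algebraMap R (MvPolynomial n R') r' * algebraMap R (MvPolynomial n R') r))
    (evz n R') (evz_comp n R') (evz_wQ n s R') (htp n R') (htp_zero n R') (htp_one n R')
    ((evz n R').commutes r) ((evz n R').commutes r') ((htp n R').commutes r) ((htp n R').commutes r') ?_ ?_
  · exact frame_of_hasFrame s X x0 r _ _ _
      (by
        have h := IsLocalization.Away.algebraMap_isUnit
          (S := Localization.Away (algebraMap R (MvPolynomial n R') r)) (algebraMap R (MvPolynomial n R') r)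
        rwa [← IsScalarTower.algebraMap_apply] at h) hr
  · exact frame_of_hasFrame s X x0 r' _ _ _
      (by
        have h := IsLocalization.Away.algebraMap_isUnit
          (S := Localization.Away (algebraMap R (MvPolynomial n R') r')) (algebraMap R (MvPolynomial n R') r')
        rwa [← IsScalarTower.algebraMap_apply] at h) hr'

theorem good_add (r r' : R) (hr : Good s X x0 r) (hr' : Good s X x0 r') : Good s X x0 (r + r') :=
  hasFrame_of_wQ s X x0 _ (exists_frame_wQ s X x0 r r' hr hr' _ (IsLocalization.Away.algebraMap_isUnit (r + r')))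

/-- The ideal of descent. -/
theorem exists_ideal : ∃ I : Ideal R, ∀ r, r ∈ I ↔ Good s X x0 r :=
  ⟨{ carrier := {r | Good s X x0 r}
     zero_mem' := good_zero s X x0
     add_mem' := fun h h' => good_add s X x0 _ _ h h'
     smul_mem' := fun a r h => good_mul s X x0 a r h }, fun _ => Iff.rfl⟩

end TorsPatchLib
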