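import Mathlib
import Groth.Prelude.Def_ActBC
import Groth.Agent.TorsSeqLib.Main

/-!
# Actions on base changes, pushed to the base
-/

set_option autoImplicit false
set_option backward.isDefEq.respectTransparency false
universe u

open CategoryTheory CategoryTheory.Limits MonoidalCategory CartesianMonoidalCategory AlgebraicGeometry
open scoped MonObj
open TorsSeqLib (act act_one act_mul comp_act)

attribute [-instance] CategoryTheory.Hom.commGroup

noncomputable section

namespace TorsPatchLib

variable {S V : Scheme.{u}} (f : V ⟶ S) {G : Over S} [GrpObj G]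

theorem homEquiv_left_fst {U : Over V} {Z : Over S} (k : (Over.map f).obj U ⟶ Z) :
    ((Over.mapPullbackAdj f).homEquiv U Z k).left ≫ pullback.fst Z.hom f = k.left := by
  simp [Adjunction.homEquiv_unit]
  exact Category.id_comp _

theorem homEquiv_symm_left {U : Over V} {Z : Over S} (k : U ⟶ Red.bc f Z) :
    (((Over.mapPullbackAdj f).homEquiv U Z).symm k).left = k.left ≫ pullback.fst Z.hom f := by
  conv_rhs => rw [← Equiv.apply_symm_apply ((Over.mapPullbackAdj f).homEquiv U Z) k]
  rw [homEquiv_left_fst]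

theorem bc_ext {U : Over V} {Z : Over S} {a b : U ⟶ Red.bc f Z}
    (h : a.left ≫ pullback.fst Z.hom f = b.left ≫ pullback.fst Z.hom f) : a = b :=
  Over.OverMorphism.ext (pullback.hom_ext h ((Over.w a).trans (Over.w b).symm))

variable {T : Over S} (u : T.left ⟶ V) (hu : u ≫ f = T.hom)

/-- A point over `V` seen over `S`. -/
def toOver : (Over.map f).obj (Over.mk u) ⟶ T := Over.homMk (𝟙 _) (by simp [hu])

/-- A point of `G` as a point of the base change. -/
def gp (g : T ⟶ G) : Over.mk u ⟶ Red.bc f G :=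
  (Over.mapPullbackAdj f).homEquiv _ _ (toOver f u hu ≫ g)

theorem gp_left_fst (g : T ⟶ G) : (gp f u hu g).left ≫ pullback.fst G.hom f = g.left := by
  rw [gp, homEquiv_left_fst]
  exact Category.id_comp _

theorem gp_mul (g g' : T ⟶ G) : gp f u hu (g * g') = gp f u hu g * gp f u hu g' := by
  rw [gp, gp, gp, MonObj.comp_mul, AlgGrp.Action.homEquiv_mul]

theorem gp_one : gp f u hu (1 : T ⟶ G) = 1 := by
  have h := gp_mul f u hu (1 : T ⟶ G) 1
  rw [_root_.mul_one] at h
  exact right_eq_mul.1 h

theorem gp_injective {g g' : T ⟶ G} (h : gp f u hu g = gp f u hu g') : g = g' := by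
  refine Over.OverMorphism.ext ?_
  rw [← gp_left_fst f u hu g, h, gp_left_fst]

theorem gp_surjective (gU : Over.mk u ⟶ Red.bc f G) : ∃ g : T ⟶ G, gp f u hu g = gU := by
  refine ⟨Over.homMk (gU.left ≫ pullback.fst G.hom f) ?_, bc_ext f (gp_left_fst f u hu _)⟩
  have h : gU.left ≫ pullback.snd G.hom f = u := Over.w gU
  rw [Category.assoc, pullback.condition, ← Category.assoc, h, hu]

variable {Y : Over V}

/-- `Y` over `S`. -/
abbrev push (f : V ⟶ S) (Y : Over V) : Over S := (Over.map f).obj Y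

/-- The projection to `V`. -/
def πp (f : V ⟶ S) (Y : Over V) : push f Y ⟶ Over.mk f := Over.homMk Y.hom rfl

variable (a : AlgGrp.Action (Red.bc f G) Y)

theorem snd_left_over : ((snd G (push f Y)).left ≫ Y.hom) ≫ f = (G ⊗ push f Y).hom :=
  (Category.assoc _ _ _).trans (Over.w (snd G (push f Y)))

/-- The action of `G` on `push f Y`. -/
def pushHom : G ⊗ push f Y ⟶ push f Y :=
  Over.homMk (lift (gp f ((snd G (push f Y)).left ≫ Y.hom) (snd_left_over f) (fst G (push f Y)))
      (Over.homMk (snd G (push f Y)).left rfl : Over.mk ((snd G (push f Y)).left ≫ Y.hom) ⟶ Y) ≫ a.act).left (by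
    show _ ≫ Y.hom ≫ f = _
    rw [← Category.assoc, Over.w]
    exact snd_left_over f)

theorem pushHom_point {T : Over S} (g : T ⟶ G) (x : T ⟶ push f Y) (u : T.left ⟶ V) (hu : u ≫ f = T.hom)
    (hx : x.left ≫ Y.hom = u) :
    (lift g x ≫ pushHom f a).left =
      (lift (gp f u hu g) (Over.homMk x.left hx : Over.mk u ⟶ Y) ≫ a.act).left := by
  let m := lift g x
  have hm : m.left ≫ (snd G (push f Y)).left = x.left := congrArg Over.Hom.left (lift_snd g x)
  have hm' : m.left ≫ (fst G (push f Y)).left = g.left := congrArg Over.Hom.left (lift_fst g x)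
  let M : Over.mk u ⟶ Over.mk ((snd G (push f Y)).left ≫ Y.hom) := Over.homMk m.left (by
    show m.left ≫ (snd G (push f Y)).left ≫ Y.hom = u
    rw [reassoc_of% hm, hx])
  have e : M ≫ lift (gp f ((snd G (push f Y)).left ≫ Y.hom) (snd_left_over f) (fst G (push f Y)))
      (Over.homMk (snd G (push f Y)).left rfl) = lift (gp f u hu g) (Over.homMk x.left hx) := by
    rw [comp_lift]
    congr 1
    · refine bc_ext f ?_
      rw [gp_left_fst, Over.comp_left, Category.assoc, gp_left_fst]
      exact hm'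
    · exact Over.OverMorphism.ext hm
  rw [← e]
  exact congrArg Over.Hom.left (Category.assoc M _ a.act)

/-- `push f Y` with its action. -/
def pushAction : AlgGrp.Action G (push f Y) where
  act := pushHom f a
  one_act := by
    have e : η[G] ▷ push f Y = lift (1 : 𝟙_ _ ⊗ push f Y ⟶ G) (snd _ _) := by
      refine CartesianMonoidalCategory.hom_ext _ _ ?_ (by simp)
      simp [Hom.one_def]
      rw [toUnit_unique (fst (𝟙_ _) (push f Y)) (toUnit _)]
    refine Over.OverMorphism.ext ?_
    have hu : ((snd (𝟙_ (Over S)) (push f Y)).left ≫ Y.hom) ≫ f = (𝟙_ (Over S) ⊗ push f Y).hom :=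
      (Category.assoc _ _ _).trans (Over.w (snd _ _))
    rw [e, pushHom_point f a _ _ _ hu rfl, gp_one]
    rw [show lift (1 : Over.mk _ ⟶ Red.bc f G) (Over.homMk (snd (𝟙_ (Over S)) (push f Y)).left rfl) ≫ a.act =
      (Over.homMk (snd (𝟙_ (Over S)) (push f Y)).left rfl : Over.mk _ ⟶ Y) from act_one a _]
    rw [leftUnitor_hom]
    rfl
  mul_act := by
    have e : μ[G] ▷ push f Y =
        lift ((fst (G ⊗ G) (push f Y) ≫ fst G G) * (fst (G ⊗ G) (push f Y) ≫ snd G G)) (snd _ _) := by
      refine CartesianMonoidalCategory.hom_ext _ _ ?_ (by simp)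
      rw [whiskerRight_fst, lift_fst, ← MonObj.comp_mul, Hom.mul_def, lift_fst_snd, Category.id_comp]
    have e' : (α_ G G (push f Y)).hom ≫ (G ◁ pushHom f a) =
        lift (fst (G ⊗ G) (push f Y) ≫ fst G G)
          (lift (fst (G ⊗ G) (push f Y) ≫ snd G G) (snd _ _) ≫ pushHom f a) := by
      refine CartesianMonoidalCategory.hom_ext _ _ (by simp) ?_
      rw [Category.assoc, whiskerLeft_snd, lift_snd, ← Category.assoc]
      congr 1
      refine CartesianMonoidalCategory.hom_ext _ _ ?_ ?_ <;> simp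
    refine Over.OverMorphism.ext ?_
    have hu : ((snd (G ⊗ G) (push f Y)).left ≫ Y.hom) ≫ f = ((G ⊗ G) ⊗ push f Y).hom :=
      (Category.assoc _ _ _).trans (Over.w (snd _ _))
    rw [← Category.assoc, e', e, pushHom_point f a _ _ _ hu rfl, gp_mul]
    rw [show lift (gp f _ hu (fst (G ⊗ G) (push f Y) ≫ fst G G) * gp f _ hu (fst (G ⊗ G) (push f Y) ≫ snd G G))
        (Over.homMk (snd (G ⊗ G) (push f Y)).left rfl : Over.mk _ ⟶ Y) ≫ a.act = _ from act_mul a _ _ _]
    have h2 := pushHom_point f a (fst (G ⊗ G) (push f Y) ≫ snd G G) (snd _ _) _ hu rfl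
    have hw : (lift (fst (G ⊗ G) (push f Y) ≫ snd G G) (snd _ _) ≫ pushHom f a).left ≫ Y.hom =
        (snd (G ⊗ G) (push f Y)).left ≫ Y.hom := by
      rw [h2, Over.w]; rfl
    rw [pushHom_point f a _ _ _ hu hw]
    have h3 : (Over.homMk (lift (fst (G ⊗ G) (push f Y) ≫ snd G G) (snd _ _) ≫ pushHom f a).left hw :
        Over.mk ((snd (G ⊗ G) (push f Y)).left ≫ Y.hom) ⟶ Y) = _ := Over.OverMorphism.ext h2
    rw [h3]

theorem pushAction_point {T : Over S} (g : T ⟶ G) (x : T ⟶ push f Y) (u : T.left ⟶ V) (hu : u ≫ f = T.hom)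
    (hx : x.left ≫ Y.hom = u) :
    (act (pushAction f a) g x).left =
      (act a (gp f u hu g) (Over.homMk x.left hx : Over.mk u ⟶ Y)).left := pushHom_point f a g x u hu hx

theorem over_left {T : Over S} (x : T ⟶ push f Y) : (x.left ≫ Y.hom) ≫ f = T.hom :=
  (Category.assoc _ _ _).trans (Over.w x)

theorem act_πp {T : Over S} (g : T ⟶ G) (x : T ⟶ push f Y) :
    act (pushAction f a) g x ≫ πp f Y = x ≫ πp f Y := by
  refine Over.OverMorphism.ext ?_
  show (act (pushAction f a) g x).left ≫ Y.hom = x.left ≫ Y.hom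
  rw [pushAction_point f a g x _ (over_left f x) rfl, Over.w]
  rfl

variable {a} (ha : NonAbH1.IsPseudoTorsorSch a)

include ha in
theorem push_exists {T : Over S} (x x' : T ⟶ push f Y) (h : x ≫ πp f Y = x' ≫ πp f Y) :
    ∃ g : T ⟶ G, act (pushAction f a) g x = x' := by
  have h' : x'.left ≫ Y.hom = x.left ≫ Y.hom := (congrArg Over.Hom.left h).symm
  obtain ⟨gU, hgU⟩ := TorsSeqLib.exists_act_eq ha (Over.homMk x.left rfl : Over.mk (x.left ≫ Y.hom) ⟶ Y)
    (Over.homMk x'.left h')
  obtain ⟨g, rfl⟩ := gp_surjective f _ (over_left f x) gU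
  refine ⟨g, Over.OverMorphism.ext ?_⟩
  rw [pushAction_point f a g x _ (over_left f x) rfl, hgU]
  rfl

include ha in
theorem push_cancel {T : Over S} {g g' : T ⟶ G} {x : T ⟶ push f Y}
    (h : act (pushAction f a) g x = act (pushAction f a) g' x) : g = g' := by
  refine gp_injective f _ (over_left f x) (TorsSeqLib.act_cancel ha (x := Over.homMk x.left rfl) ?_)
  refine Over.OverMorphism.ext ?_
  rw [← pushAction_point f a g x _ (over_left f x) rfl, h, pushAction_point f a g' x _ (over_left f x) rfl]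

/-- An equivariant morphism stays equivariant over `S`. -/
theorem push_map {Y' : Over V} (b : AlgGrp.Action (Red.bc f G) Y') (φ : Y ⟶ Y')
    (hφ : a.act ≫ φ = (Red.bc f G ◁ φ) ≫ b.act) {T : Over S} (g : T ⟶ G) (x : T ⟶ push f Y) :
    act (pushAction f a) g x ≫ (Over.map f).map φ = act (pushAction f b) g (x ≫ (Over.map f).map φ) := by
  refine Over.OverMorphism.ext ?_
  have hx' : (x ≫ (Over.map f).map φ).left ≫ Y'.hom = x.left ≫ Y.hom := by
    show (x.left ≫ φ.left) ≫ Y'.hom = _
    rw [Category.assoc, Over.w]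
  rw [pushAction_point f b g _ _ (over_left f x) hx']
  show (act (pushAction f a) g x).left ≫ φ.left = _
  rw [pushAction_point f a g x _ (over_left f x) rfl, ← Over.comp_left, act, Category.assoc, hφ,
    lift_whiskerLeft_assoc]
  refine congrArg Over.Hom.left (congrArg (act b _) ?_)
  exact Over.OverMorphism.ext rfl

/-- A morphism equivariant over `S` is equivariant. -/
theorem equivariant_of_push {Y' : Over V} (b : AlgGrp.Action (Red.bc f G) Y') (φ : Y ⟶ Y')
    (h : ∀ (T : Over S) (g : T ⟶ G) (x : T ⟶ push f Y),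
      act (pushAction f a) g x ≫ (Over.map f).map φ = act (pushAction f b) g (x ≫ (Over.map f).map φ)) :
    a.act ≫ φ = (Red.bc f G ◁ φ) ≫ b.act := by
  let U := Red.bc f G ⊗ Y
  let T : Over S := Over.mk (U.hom ≫ f)
  obtain ⟨g, hg⟩ := gp_surjective f (T := T) U.hom rfl (fst (Red.bc f G) Y)
  let x : T ⟶ push f Y := Over.homMk (snd (Red.bc f G) Y).left (by
    show _ ≫ Y.hom ≫ f = U.hom ≫ f
    rw [← Category.assoc, Over.w])
  have hx : x.left ≫ Y.hom = U.hom := Over.w (snd (Red.bc f G) Y)
  have hx' : (x ≫ (Over.map f).map φ).left ≫ Y'.hom = U.hom := by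
    show ((snd (Red.bc f G) Y).left ≫ φ.left) ≫ Y'.hom = _
    rw [Category.assoc, Over.w, Over.w]
  have h1 : (act (pushAction f a) g x ≫ (Over.map f).map φ).left = _ := congrArg Over.Hom.left (h T g x)
  rw [pushAction_point f b g _ _ rfl hx', Over.comp_left] at h1
  change (act (pushAction f a) g x).left ≫ φ.left = _ at h1
  rw [pushAction_point f a g x _ rfl hx] at h1
  rw [hg] at h1
  refine Over.OverMorphism.ext (Eq.trans ?_ (h1.trans ?_))
  · show a.act.left ≫ φ.left = _
    congr 1
    refine congrArg Over.Hom.left ?_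
    exact ((congrArg (· ≫ a.act) lift_fst_snd).trans (Category.id_comp _)).symm
  · refine congrArg Over.Hom.left (congrArg (· ≫ b.act) ?_)
    refine CartesianMonoidalCategory.hom_ext _ _ (by simp) ?_
    simp only [lift_snd, whiskerLeft_snd]
    exact Over.OverMorphism.ext rfl

variable (a)

/-- The projection from the base change of `Y` along `q`. -/
def prBC {V' : Scheme.{u}} (q : V' ⟶ V) {d : V' ⟶ S} (hd : q ≫ f = d) (Y : Over V) :
    push d (Red.bc q Y) ⟶ push f Y :=
  Over.homMk (pullback.fst Y.hom q) (by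
    show pullback.fst Y.hom q ≫ Y.hom ≫ f = pullback.snd Y.hom q ≫ d
    rw [pullback.condition_assoc, hd])

theorem bcCompIso_inv_fst {V' : Scheme.{u}} (q : V' ⟶ V) {d : V' ⟶ S} (hd : q ≫ f = d) :
    (ActBC.bcCompIso q f G hd).inv.left ≫ pullback.fst _ q ≫ pullback.fst G.hom f = pullback.fst G.hom d := by
  rw [← ActBC.bcCompIso_hom_left_fst q f G hd, ← Over.comp_left_assoc, Iso.inv_hom_id]
  exact Category.id_comp _

/-- The restricted base change of an action, over `S`. -/
theorem prBC_act {V' : Scheme.{u}} (q : V' ⟶ V) {d : V' ⟶ S} (hd : q ≫ f = d) {T : Over S} (g : T ⟶ G)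
    (x : T ⟶ push d (Red.bc q Y)) :
    act (pushAction d ((a.bc q).restrict (ActBC.bcCompIso q f G hd).inv)) g x ≫ prBC f q hd Y =
      act (pushAction f a) g (x ≫ prBC f q hd Y) := by
  refine Over.OverMorphism.ext ?_
  let u' := x.left ≫ (Red.bc q Y).hom
  have hu : u' ≫ d = T.hom := over_left d x
  have huq : (u' ≫ q) ≫ f = T.hom := by rw [Category.assoc, hd, hu]
  have hxq : (x ≫ prBC f q hd Y).left ≫ Y.hom = u' ≫ q := by
    show (x.left ≫ pullback.fst Y.hom q) ≫ Y.hom = (x.left ≫ pullback.snd Y.hom q) ≫ q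
    rw [Category.assoc, pullback.condition, Category.assoc]
  show (act (pushAction d _) g x).left ≫ pullback.fst Y.hom q = _
  rw [pushAction_point d _ g x u' hu rfl, pushAction_point f a g _ (u' ≫ q) huq hxq]
  set gq := gp d u' hu g ≫ (ActBC.bcCompIso q f G hd).inv with hgq
  let xU : Over.mk u' ⟶ Red.bc q Y := Over.homMk x.left rfl
  have e : act ((a.bc q).restrict (ActBC.bcCompIso q f G hd).inv) (gp d u' hu g) xU =
      (Over.mapPullbackAdj q).homEquiv _ _ (act a (((Over.mapPullbackAdj q).homEquiv _ _).symm gq)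
        (((Over.mapPullbackAdj q).homEquiv _ _).symm xU)) := by
    rw [act, AlgGrp.Action.restrict_act, lift_whiskerRight_assoc, ← hgq]
    exact (congrArg₂ (fun s t => lift s t ≫ (a.bc q).act)
      (Equiv.apply_symm_apply ((Over.mapPullbackAdj q).homEquiv _ _) gq).symm
      (Equiv.apply_symm_apply ((Over.mapPullbackAdj q).homEquiv _ _) xU).symm).trans
      (AlgGrp.Action.lift_homEquiv_bc_act q a _ _)
  rw [e, homEquiv_left_fst]
  have e2 : ((Over.mapPullbackAdj q).homEquiv _ _).symm gq = gp f (u' ≫ q) huq g := by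
    refine bc_ext f ?_
    rw [homEquiv_symm_left, gp_left_fst, hgq, Over.comp_left]
    simp only [Category.assoc]
    rw [bcCompIso_inv_fst, gp_left_fst]
  have e3 : ((Over.mapPullbackAdj q).homEquiv _ _).symm xU =
      (Over.homMk (x ≫ prBC f q hd Y).left hxq : Over.mk (u' ≫ q) ⟶ Y) :=
    Over.OverMorphism.ext (homEquiv_symm_left q xU)
  rw [e2, e3]

/-- The projection from a base change. -/
def prBC₀ (q : V ⟶ S) (Z : Over S) : push q (Red.bc q Z) ⟶ Z :=
  Over.homMk (pullback.fst Z.hom q) pullback.condition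

/-- The base change of an action, over `S`. -/
theorem prBC₀_act {Z : Over S} (c : AlgGrp.Action G Z) {T : Over S} (g : T ⟶ G)
    (x : T ⟶ push f (Red.bc f Z)) :
    act (pushAction f (c.bc f)) g x ≫ prBC₀ f Z = act c g (x ≫ prBC₀ f Z) := by
  refine Over.OverMorphism.ext ?_
  let u' := x.left ≫ (Red.bc f Z).hom
  have hu : u' ≫ f = T.hom := over_left f x
  show (act (pushAction f (c.bc f)) g x).left ≫ pullback.fst Z.hom f = _
  rw [pushAction_point f _ g x u' hu rfl]
  have e3 : (Over.homMk x.left rfl : Over.mk u' ⟶ Red.bc f Z) =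
      (Over.mapPullbackAdj f).homEquiv _ _ (toOver f u' hu ≫ x ≫ prBC₀ f Z) := by
    refine bc_ext f ?_
    rw [homEquiv_left_fst]
    exact (Category.id_comp (x.left ≫ pullback.fst Z.hom f)).symm
  rw [e3, act, gp, AlgGrp.Action.lift_homEquiv_bc_act, homEquiv_left_fst, ← comp_lift, Category.assoc]
  exact Category.id_comp _

/-- Pseudo-torsors stay pseudo-torsors under an isomorphism of groups. -/
theorem isPseudoTorsorSch_restrict {H : Over V} [GrpObj H] {K : Over V} [GrpObj K] {Z : Over V}
    {c : AlgGrp.Action K Z} (hc : NonAbH1.IsPseudoTorsorSch c) (φ : H ⟶ K) [IsMonHom φ] [IsIso φ] :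
    NonAbH1.IsPseudoTorsorSch (c.restrict φ) := by
  have : IsIso (lift c.act (snd K Z)) := hc
  have e : lift (c.restrict φ).act (snd H Z) = (φ ▷ Z) ≫ lift c.act (snd K Z) := by
    rw [comp_lift, whiskerRight_snd, AlgGrp.Action.restrict_act]
  show IsIso _
  rw [e]
  infer_instance

/-- A pseudo-torsor from simple transitivity on points. -/
theorem isPseudoTorsorSch_of_points {Z : Over S} (c : AlgGrp.Action G Z)
    (he : ∀ (T : Over S) (x x' : T ⟶ Z), ∃ g : T ⟶ G, act c g x = x')
    (hc : ∀ (T : Over S) (g g' : T ⟶ G) (x : T ⟶ Z), act c g x = act c g' x → g = g') :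
    NonAbH1.IsPseudoTorsorSch c := by
  obtain ⟨k, hk⟩ := he _ (snd Z Z) (fst Z Z)
  refine ⟨⟨lift k (snd Z Z), ?_, ?_⟩⟩
  · have e : lift c.act (snd G Z) ≫ k = fst G Z := by
      refine hc _ _ _ (snd G Z) ?_
      have h := congrArg (lift c.act (snd G Z) ≫ ·) hk
      simp only [comp_act, lift_snd, lift_fst] at h
      refine h.trans ?_
      simp [act]
    rw [comp_lift, e, lift_snd, lift_fst_snd]
  · rw [comp_lift, lift_snd]
    rw [show lift k (snd Z Z) ≫ c.act = fst Z Z from hk, lift_fst_snd]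

end TorsPatchLib
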