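import Groth.Agent.TorsPatchLib.Conv

/-!
# Frames: descriptions of isomorphisms of torsors through one trivialising cover
-/

set_option autoImplicit false
set_option backward.isDefEq.respectTransparency false
universe u

open CategoryTheory CategoryTheory.Limits MonoidalCategory CartesianMonoidalCategory AlgebraicGeometry
open scoped MonObj
open TorsSeqLib (act act_one act_mul comp_act)

attribute [-instance] CategoryTheory.Hom.commGroup

noncomputable section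

namespace TorsPatchLib

/-- A family of torsors over `A`, with a point of the fibre at `zero` over `T1`. -/
structure Fam {S : Scheme.{u}} (G : Over S) [GrpObj G] where
  X : Over S
  A : Over S
  π : X ⟶ A
  a : AlgGrp.Action G X
  zero : 𝟙_ (Over S) ⟶ A
  act_π : ∀ {T : Over S} (g : T ⟶ G) (x : T ⟶ X), act a g x ≫ π = x ≫ π
  exists_act : ∀ {T : Over S} (x x' : T ⟶ X), x ≫ π = x' ≫ π → ∃ g : T ⟶ G, act a g x = x'
  cancel : ∀ {T : Over S} {g g' : T ⟶ G} {x : T ⟶ X}, act a g x = act a g' x → g = g'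
  T1 : Over S
  x1 : T1 ⟶ X
  x1π : x1 ≫ π = toUnit _ ≫ zero

variable {S : Scheme.{u}} {G : Over S} [GrpObj G] (D : Fam G)

theorem exists_d : ∃ d : D.T1 ⊗ D.T1 ⟶ G, act D.a d (fst _ _ ≫ D.x1) = snd _ _ ≫ D.x1 :=
  D.exists_act _ _ (by rw [Category.assoc, Category.assoc, D.x1π, comp_toUnit_assoc, comp_toUnit_assoc])

/-- The cocycle of the trivialisation. -/
def Fam.d : D.T1 ⊗ D.T1 ⟶ G := (exists_d D).choose

theorem d_spec {T : Over S} (t t' : T ⟶ D.T1) : act D.a (lift t t' ≫ D.d) (t ≫ D.x1) = t' ≫ D.x1 := by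
  have h := congrArg (lift t t' ≫ ·) (exists_d D).choose_spec
  simp only [comp_act, lift_fst_assoc, lift_snd_assoc] at h
  exact h

/-- Automorphisms of the fibre at zero. -/
def IsAut {W : Over S} (k : D.T1 ⊗ W ⟶ G) : Prop :=
  ∀ {T : Over S} (t t' : T ⟶ D.T1) (v : T ⟶ W),
    lift t' v ≫ k = (lift t t' ≫ D.d) * (lift t v ≫ k) * (lift t t' ≫ D.d)⁻¹

/-- Isomorphisms of the fibre at zero with the family along `w`. -/
def IsFrame {W : Over S} (w : W ⟶ D.A) (y : D.T1 ⊗ W ⟶ D.X) : Prop :=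
  y ≫ D.π = snd _ _ ≫ w ∧
  ∀ {T : Over S} (t t' : T ⟶ D.T1) (v : T ⟶ W),
    lift t' v ≫ y = act D.a (lift t t' ≫ D.d) (lift t v ≫ y)

variable {D} {W : Over S} {w : W ⟶ D.A}

theorem isAut_one : IsAut D (1 : D.T1 ⊗ W ⟶ G) := fun t t' v => by
  rw [MonObj.comp_one, MonObj.comp_one, _root_.mul_one, mul_inv_cancel]

theorem IsAut.mul {k k' : D.T1 ⊗ W ⟶ G} (hk : IsAut D k) (hk' : IsAut D k') : IsAut D (k * k') :=
  fun t t' v => by
    rw [MonObj.comp_mul, MonObj.comp_mul, hk t t' v, hk' t t' v]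
    group

theorem IsAut.inv {k : D.T1 ⊗ W ⟶ G} (hk : IsAut D k) : IsAut D k⁻¹ := fun t t' v => by
  rw [GrpObj.comp_inv, GrpObj.comp_inv, hk t t' v]
  group

theorem IsAut.pull {k : D.T1 ⊗ W ⟶ G} (hk : IsAut D k) {W' : Over S} (f : W' ⟶ W) :
    IsAut D ((D.T1 ◁ f) ≫ k) := fun t t' v => by
  rw [lift_whiskerLeft_assoc, lift_whiskerLeft_assoc]
  exact hk t t' (v ≫ f)

theorem IsFrame.pull {y : D.T1 ⊗ W ⟶ D.X} (hy : IsFrame D w y) {W' : Over S} (f : W' ⟶ W) {w' : W' ⟶ D.A}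
    (hw : f ≫ w = w') : IsFrame D w' ((D.T1 ◁ f) ≫ y) := by
  refine ⟨?_, fun t t' v => ?_⟩
  · rw [Category.assoc, hy.1, whiskerLeft_snd_assoc, hw]
  · rw [lift_whiskerLeft_assoc, lift_whiskerLeft_assoc]
    exact hy.2 t t' (v ≫ f)

theorem pull_act {k : D.T1 ⊗ W ⟶ G} {y : D.T1 ⊗ W ⟶ D.X} {W' : Over S} (f : W' ⟶ W) :
    (D.T1 ◁ f) ≫ act D.a k y = act D.a ((D.T1 ◁ f) ≫ k) ((D.T1 ◁ f) ≫ y) := comp_act _ _ _ _

theorem IsFrame.act {k : D.T1 ⊗ W ⟶ G} {y : D.T1 ⊗ W ⟶ D.X} (hk : IsAut D k) (hy : IsFrame D w y) :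
    IsFrame D w (act D.a k y) := by
  refine ⟨(D.act_π k y).trans hy.1, fun t t' v => ?_⟩
  rw [comp_act, comp_act, hy.2 t t' v, hk t t' v, ← act_mul, ← act_mul, inv_mul_cancel_right]

theorem IsFrame.exists_trans {y y' : D.T1 ⊗ W ⟶ D.X} (hy : IsFrame D w y) (hy' : IsFrame D w y') :
    ∃ k, IsAut D k ∧ TorsSeqLib.act D.a k y = y' := by
  obtain ⟨k, hk⟩ := D.exists_act y y' (hy.1.trans hy'.1.symm)
  refine ⟨k, fun t t' v => D.cancel (x := lift t' v ≫ y) ?_, hk⟩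
  rw [← comp_act, hk, hy'.2 t t' v, ← hk, comp_act, act_mul, act_mul, hy.2 t t' v, ← act_mul D.a _⁻¹,
    inv_mul_cancel, act_one]

theorem isFrame_zero : IsFrame D (toUnit W ≫ D.zero) (fst D.T1 W ≫ D.x1) := by
  refine ⟨?_, fun t t' v => ?_⟩
  · rw [Category.assoc, D.x1π, comp_toUnit_assoc, comp_toUnit_assoc]
  · rw [lift_fst_assoc, lift_fst_assoc, d_spec]

/-- Normalisation at zero. -/
theorem IsFrame.normalise {y : D.T1 ⊗ W ⟶ D.X} (hy : IsFrame D w y) (e : W ⟶ W) (hee : e ≫ e = e)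
    (he : e ≫ w = toUnit W ≫ D.zero) :
    ∃ y', IsFrame D w y' ∧ (D.T1 ◁ e) ≫ y' = fst D.T1 W ≫ D.x1 := by
  obtain ⟨k, hk, hky⟩ := (hy.pull e he).exists_trans isFrame_zero
  refine ⟨TorsSeqLib.act D.a ((D.T1 ◁ e) ≫ k) y, IsFrame.act (hk.pull e) hy, ?_⟩
  have h := congrArg ((D.T1 ◁ e) ≫ ·) hky
  simp only [comp_act, whiskerLeft_fst_assoc] at h
  rw [← Category.assoc (D.T1 ◁ e) (D.T1 ◁ e), ← MonoidalCategory.whiskerLeft_comp, hee] at h
  rw [pull_act, ← Category.assoc (D.T1 ◁ e) (D.T1 ◁ e), ← MonoidalCategory.whiskerLeft_comp, hee]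
  exact h

/-! ### Gluing -/

section Glue

variable {J : Type u} {Wi : J → Over S} (f : ∀ i, Wi i ⟶ W) [∀ i, IsOpenImmersion (f i).left]
  (hs : ∀ x : W.left, ∃ i, x ∈ Set.range (f i).left)

include hs in
theorem exists_pullback_cover {T : Over S} (v : T ⟶ W) :
    ∃ (Ti : J → Over S) (c : ∀ i, Ti i ⟶ T) (a : ∀ i, Ti i ⟶ Wi i), (∀ i, IsOpenImmersion (c i).left) ∧
      (∀ x : T.left, ∃ i, x ∈ Set.range (c i).left) ∧ ∀ i, c i ≫ v = a i ≫ f i := by
  refine ⟨fun i => Over.mk (pullback.fst v.left (f i).left ≫ T.hom), fun i => Over.homMk (pullback.fst _ _) rfl,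
    fun i => Over.homMk (pullback.snd v.left (f i).left) ?_, fun i => ?_, fun x => ?_,
    fun i => Over.OverMorphism.ext pullback.condition⟩
  · show pullback.snd _ _ ≫ (Wi i).hom = pullback.fst _ _ ≫ T.hom
    rw [← Over.w (f i), ← Category.assoc, ← pullback.condition, Category.assoc, Over.w]
  · exact inferInstanceAs (IsOpenImmersion (pullback.fst v.left (f i).left))
  · obtain ⟨i, hi⟩ := hs (v.left x)
    refine ⟨i, ?_⟩
    show x ∈ Set.range (pullback.fst v.left (f i).left)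
    rw [Scheme.Pullback.range_fst]
    exact hi

include hs in
theorem ext_over {M : Over S} {m m' : W ⟶ M} (h : ∀ i, f i ≫ m = f i ≫ m') : m = m' := by
  choose idx hidx using hs
  let 𝒰 : Scheme.OpenCover W.left := Scheme.Cover.mkOfCovers J (fun i => (Wi i).left) (fun i => (f i).left)
    (fun x => ⟨idx x, hidx x⟩) (fun i => inferInstance)
  exact Over.OverMorphism.ext (Scheme.Cover.hom_ext 𝒰 _ _ fun i => congrArg Over.Hom.left (h i))

include hs in
theorem exists_over {M : Over S} (m : ∀ i, Wi i ⟶ M)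
    (h : ∀ i j (T : Over S) (a : T ⟶ Wi i) (b : T ⟶ Wi j), a ≫ f i = b ≫ f j → a ≫ m i = b ≫ m j) :
    ∃ m' : W ⟶ M, ∀ i, f i ≫ m' = m i := by
  choose idx hidx using hs
  let 𝒰 : Scheme.OpenCover W.left := Scheme.Cover.mkOfCovers J (fun i => (Wi i).left) (fun i => (f i).left)
    (fun x => ⟨idx x, hidx x⟩) (fun i => inferInstance)
  let g := 𝒰.glueMorphisms (fun i => (m i).left) fun i j => by
    let T : Over S := Over.mk (pullback.fst (f i).left (f j).left ≫ (Wi i).hom)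
    exact congrArg Over.Hom.left (h i j T (Over.homMk (pullback.fst _ _) rfl)
      (Over.homMk (pullback.snd _ _) (by
        show pullback.snd _ _ ≫ (Wi j).hom = pullback.fst _ _ ≫ (Wi i).hom
        rw [← Over.w (f i), ← Over.w (f j), pullback.condition_assoc]))
      (Over.OverMorphism.ext pullback.condition))
  have hg : ∀ i, (f i).left ≫ g = (m i).left := fun i => 𝒰.ι_glueMorphisms _ _ i
  refine ⟨Over.homMk g (Scheme.Cover.hom_ext 𝒰 _ _ fun i => ?_), fun i => Over.OverMorphism.ext (hg i)⟩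
  show (f i).left ≫ g ≫ M.hom = (f i).left ≫ W.hom
  rw [← Category.assoc, hg, Over.w, Over.w]

include hs in
/-- Frames glue. -/
theorem glue_frame (y : ∀ i, D.T1 ⊗ Wi i ⟶ D.X) (hy : ∀ i, IsFrame D (f i ≫ w) (y i))
    (hc : ∀ i j (T : Over S) (t : T ⟶ D.T1) (a : T ⟶ Wi i) (b : T ⟶ Wi j), a ≫ f i = b ≫ f j →
      lift t a ≫ y i = lift t b ≫ y j) : ∃ y', IsFrame D w y' := by
  obtain ⟨Z, c, a, hco, hcs, hca⟩ := exists_pullback_cover f hs (snd D.T1 W)
  obtain ⟨y', hy'⟩ := exists_over c hcs (fun i => lift (c i ≫ fst _ _) (a i) ≫ y i) fun i j T p q h => by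
    simp only [comp_lift_assoc]
    rw [show p ≫ c i ≫ fst D.T1 W = q ≫ c j ≫ fst D.T1 W from by rw [← Category.assoc, h, Category.assoc]]
    refine hc i j T _ _ _ ?_
    rw [Category.assoc, Category.assoc, ← hca, ← hca, ← Category.assoc, h, Category.assoc]
  have key : ∀ i {T : Over S} (t : T ⟶ D.T1) (b : T ⟶ Wi i), lift t (b ≫ f i) ≫ y' = lift t b ≫ y i := by
    intro i T t b
    obtain ⟨U, c', a', hco', hcs', hca'⟩ := exists_pullback_cover c hcs (lift t (b ≫ f i))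
    refine ext_over c' hcs' fun j => ?_
    rw [← Category.assoc, hca', Category.assoc, hy', comp_lift_assoc, comp_lift_assoc,
      show a' j ≫ c j ≫ fst D.T1 W = c' j ≫ t by rw [← Category.assoc, ← hca', Category.assoc, lift_fst]]
    refine hc j i (U j) _ _ _ ?_
    rw [Category.assoc, Category.assoc, ← hca, ← Category.assoc, ← hca', Category.assoc, lift_snd]
  refine ⟨y', ext_over c hcs fun i => ?_, fun {T} t t' v => ?_⟩
  · rw [← Category.assoc, hy', Category.assoc, (hy i).1, lift_snd_assoc, ← Category.assoc, ← hca,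
      Category.assoc]
  · obtain ⟨U, c', a', hco', hcs', hca'⟩ := exists_pullback_cover f hs v
    refine ext_over c' hcs' fun i => ?_
    simp only [comp_act, comp_lift_assoc, hca', key]
    exact (hy i).2 _ _ _

end Glue

/-! ### From frames to equivariant morphisms -/

section Descend

variable {P : Over S} (b : AlgGrp.Action G P) (i : P ⟶ D.X) (x0 : D.T1 ⟶ P) (hx0 : x0 ≫ i = D.x1)
  (hi : ∀ (T : Over S) (g : T ⟶ G) (p : T ⟶ P), TorsSeqLib.act b g p ≫ i = TorsSeqLib.act D.a g (p ≫ i))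
  (hiπ : i ≫ D.π = toUnit P ≫ D.zero)
  (hT1 : NonAbH1.IsLocallyTrivialFor Scheme.fpqcPrecoverage D.T1)

include x0 hx0 hi hiπ hT1 in
/-- A frame gives an equivariant morphism. -/
theorem exists_equivariant {y : D.T1 ⊗ W ⟶ D.X} (hy : IsFrame D w y) :
    ∃ F : P ⊗ W ⟶ D.X, F ≫ D.π = snd P W ≫ w ∧
      ∀ (T : Over S) (g : T ⟶ G) (p : T ⟶ P) (v : T ⟶ W),
        lift (TorsSeqLib.act b g p) v ≫ F = TorsSeqLib.act D.a g (lift p v ≫ F) := by
  obtain ⟨k, hk⟩ := D.exists_act (snd (P ⊗ W) D.T1 ≫ D.x1) ((fst (P ⊗ W) D.T1 ≫ fst P W) ≫ i) (by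
    rw [Category.assoc, Category.assoc, D.x1π, hiπ, comp_toUnit_assoc, comp_toUnit_assoc])
  let φ : (P ⊗ W) ⊗ D.T1 ⟶ D.X :=
    TorsSeqLib.act D.a k (lift (snd _ _) (fst _ _ ≫ snd P W) ≫ y)
  have kspec : ∀ (T : Over S) (z : T ⟶ P ⊗ W) (t : T ⟶ D.T1),
      TorsSeqLib.act D.a (lift z t ≫ k) (t ≫ D.x1) = (z ≫ fst P W) ≫ i := fun T z t => by
    have h := congrArg (lift z t ≫ ·) hk
    simp only [comp_act, lift_snd_assoc, Category.assoc, lift_fst_assoc] at h
    rw [Category.assoc]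
    exact h
  have φval : ∀ (T : Over S) (z : T ⟶ P ⊗ W) (t : T ⟶ D.T1),
      lift z t ≫ φ = TorsSeqLib.act D.a (lift z t ≫ k) (lift t (z ≫ snd P W) ≫ y) := fun T z t => by
    simp only [φ, comp_act, comp_lift_assoc, lift_snd, lift_fst_assoc]
  obtain ⟨F, hF⟩ := TorsSeqLib.descend hT1 φ fun T z t t' => by
    have h1 : lift z t' ≫ k * (lift t t' ≫ D.d) = lift z t ≫ k := D.cancel (x := t ≫ D.x1) (by
      rw [act_mul, d_spec, kspec, kspec])
    rw [φval, φval, hy.2 t t' (z ≫ snd P W), ← act_mul, h1]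
  refine ⟨F, TorsSeqLib.ext_cover hT1 _ _ fun T z t => ?_, fun T g p v => ?_⟩
  · rw [← Category.assoc, hF T z t, φval, D.act_π, Category.assoc, hy.1, lift_snd_assoc, Category.assoc]
  · refine TorsSeqLib.ext_cover hT1 _ _ fun U r t => ?_
    rw [comp_act, ← Category.assoc, ← Category.assoc, comp_lift, comp_lift, comp_act, hF U _ t, hF U _ t,
      φval, φval, lift_snd, lift_snd, ← act_mul]
    congr 1
    refine D.cancel (x := t ≫ D.x1) ?_
    rw [kspec, act_mul, kspec, lift_fst, lift_fst, hi]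

end Descend

end TorsPatchLib
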