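import Groth.Agent.TorsPatchLib.Frame
import Groth.Agent.TorsFpqcLib.Basic
import Groth.Agent.TorsPatchLib.Quillen

/-!
# Descended torsors and frames
-/

set_option autoImplicit false
set_option backward.isDefEq.respectTransparency false
universe u

open CategoryTheory CategoryTheory.Limits MonoidalCategory CartesianMonoidalCategory AlgebraicGeometry
open scoped MonObj
open TorsSeqLib (act act_one act_mul comp_act)

attribute [-instance] CategoryTheory.Hom.commGroup

noncomputable section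

namespace TorsPatchLib

variable {S V0 : Scheme.{u}} {p : V0 ⟶ S} (z : S ⟶ V0) (hz : z ≫ p = 𝟙 S) {G : Over S} [GrpObj G]
  (X : NonAbH1.TorsorSch (Red.bc p G) Scheme.fppfPrecoverage)

/-- The action on the fibre at the zero section. -/
def fibreAct : AlgGrp.Action G (push (𝟙 S) (Red.bc z X.X)) :=
  pushAction (𝟙 S) ((X.act.bc z).restrict (ActBC.bcCompIso z p G hz).inv)

theorem isPseudoTorsorSch_fibre :
    NonAbH1.IsPseudoTorsorSch (fibreAct z hz X) := by
  have h : NonAbH1.IsPseudoTorsorSch ((X.act.bc z).restrict (ActBC.bcCompIso z p G hz).inv) :=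
    isPseudoTorsorSch_restrict (NonAbH1.isPseudoTorsorSch_bc z X.isTorsor.1) _
  refine isPseudoTorsorSch_of_points _ (fun T x x' => push_exists (𝟙 S) h x x' ?_) fun T g g' x e =>
    push_cancel (𝟙 S) h e
  refine Over.OverMorphism.ext ?_
  show x.left ≫ (Red.bc z X.X).hom = x'.left ≫ (Red.bc z X.X).hom
  have e1 := over_left (𝟙 S) x
  have e2 := over_left (𝟙 S) x'
  rw [Category.comp_id] at e1 e2
  rw [e1, e2]

theorem isLocallyTrivialFor_fibre :
    NonAbH1.IsLocallyTrivialFor Scheme.fppfPrecoverage (push (𝟙 S) (Red.bc z X.X)) := by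
  obtain ⟨C, hC, h⟩ := NonAbH1.isLocallyTrivialFor_bc z Scheme.fppfPrecoverage X.isTorsor.2
  refine ⟨C, hC, fun T g hg => ?_⟩
  obtain ⟨σ, hσ⟩ := h g hg
  refine ⟨σ, ?_⟩
  show σ ≫ (Red.bc z X.X).hom ≫ 𝟙 S = g
  rw [Category.comp_id, hσ]

/-- The fibre at the zero section. -/
def fibre : NonAbH1.TorsorSch G Scheme.fppfPrecoverage :=
  ⟨_, fibreAct z hz X, isPseudoTorsorSch_fibre z hz X, isLocallyTrivialFor_fibre z X⟩

/-- The zero section. -/
def zeroPt : 𝟙_ (Over S) ⟶ Over.mk p := Over.homMk z hz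

/-- The inclusion of the fibre. -/
def inc : (fibre z hz X).X ⟶ push p X.X := prBC p z hz X.X

theorem toUnit_zeroPt {T : Over S} : (toUnit T ≫ zeroPt z hz).left = T.hom ≫ z := by
  have h : (toUnit T).left = T.hom := by
    have := Over.w (toUnit T)
    simpa using this
  show (toUnit T).left ≫ z = _
  rw [h]

theorem inc_π : inc z hz X ≫ πp p X.X = toUnit _ ≫ zeroPt z hz := by
  refine Over.OverMorphism.ext ?_
  rw [toUnit_zeroPt]
  show pullback.fst X.X.hom z ≫ X.X.hom = (pullback.snd X.X.hom z ≫ 𝟙 S) ≫ z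
  rw [Category.comp_id, pullback.condition]

theorem inc_act {T : Over S} (g : T ⟶ G) (x : T ⟶ (fibre z hz X).X) :
    act (fibre z hz X).act g x ≫ inc z hz X = act (pushAction p X.act) g (x ≫ inc z hz X) :=
  prBC_act p X.act z hz g x

variable {R : Type u} [CommRing R] {s : Spec (CommRingCat.of R) ⟶ S} {R1 : Type u} [CommRing R1] [Algebra R R1]

/-- The family of a torsor and a point of its fibre at zero. -/
def fam (x0 : pt s R1 ⟶ (fibre z hz X).X) : Fam G where
  X := push p X.X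
  A := Over.mk p
  π := πp p X.X
  a := pushAction p X.act
  zero := zeroPt z hz
  act_π := fun g x => act_πp p X.act g x
  exists_act := fun x x' h => push_exists p X.isTorsor.1 x x' h
  cancel := fun h => push_cancel p X.isTorsor.1 h
  T1 := pt s R1
  x1 := x0 ≫ inc z hz X
  x1π := by rw [Category.assoc, inc_π, comp_toUnit_assoc]

variable {V1 : Scheme.{u}} (j : V1 ⟶ S)

/-- The base change of `V0` along `j`, over `S`. -/
abbrev W0 (p : V0 ⟶ S) (j : V1 ⟶ S) : Over S := Over.mk (pullback.snd p j ≫ j)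

/-- The projection to `V0`. -/
def w0 (p : V0 ⟶ S) (j : V1 ⟶ S) : W0 p j ⟶ Over.mk p := Over.homMk (pullback.fst p j) pullback.condition

/-- The projection to `V1`. -/
def v0 (p : V0 ⟶ S) (j : V1 ⟶ S) : W0 p j ⟶ Over.mk j := Over.homMk (pullback.snd p j) rfl

/-- The zero section over `V1`. -/
def z0 : Over.mk j ⟶ W0 p j :=
  Over.homMk (pullback.lift (j ≫ z) (𝟙 V1) (by rw [Category.assoc, hz, Category.comp_id]; exact (Category.id_comp j).symm))
    (by show pullback.lift _ _ _ ≫ pullback.snd p j ≫ j = j; simp only [pullback.lift_snd_assoc]; exact Category.id_comp j)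

theorem z0_w0 : z0 z hz j ≫ w0 p j = toUnit _ ≫ zeroPt z hz := by
  refine Over.OverMorphism.ext ?_
  rw [toUnit_zeroPt]
  exact pullback.lift_fst _ _ _

/-- The torsor `X` descends along `j`. -/
def Desc : Prop :=
  ∃ P : NonAbH1.TorsorSch (Red.bc j G) Scheme.fppfPrecoverage,
    Nonempty (NonAbH1.EquivIso
      ((P.act.bc (pullback.snd p j)).restrict (ActBC.bcCompIso (pullback.snd p j) j G rfl).inv)
      ((X.act.bc (pullback.fst p j)).restrict (ActBC.bcCompIso (pullback.fst p j) p G pullback.condition).inv))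

variable (x0 : pt s R1 ⟶ (fibre z hz X).X)

/-- There is a frame along `j`. -/
def HasFrame : Prop :=
  ∃ y : pt s R1 ⊗ W0 p j ⟶ push p X.X, IsFrame (fam z hz X x0) (w0 p j) y

theorem bc_point_ext {V2 : Scheme.{u}} (f : V1 ⟶ S) (q : V2 ⟶ V1) {d : V2 ⟶ S} (hd : q ≫ f = d) (Y : Over V1)
    {T : Over S} {m m' : T ⟶ push d (Red.bc q Y)} (h1 : m ≫ prBC f q hd Y = m' ≫ prBC f q hd Y)
    (h2 : m ≫ πp d (Red.bc q Y) = m' ≫ πp d (Red.bc q Y)) : m = m' :=
  Over.OverMorphism.ext (pullback.hom_ext (congrArg Over.Hom.left h1) (congrArg Over.Hom.left h2))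

/-- A point of a base change from its two projections. -/
def bcPoint {V2 : Scheme.{u}} (f : V1 ⟶ S) (q : V2 ⟶ V1) {d : V2 ⟶ S} (hd : q ≫ f = d) {Y : Over V1}
    {T : Over S} (x : T ⟶ push f Y) (v : T ⟶ Over.mk d) (h : (x ≫ πp f Y).left = v.left ≫ q) :
    T ⟶ push d (Red.bc q Y) :=
  Over.homMk (pullback.lift x.left v.left h) (by
    show pullback.lift _ _ _ ≫ pullback.snd Y.hom q ≫ d = T.hom
    rw [pullback.lift_snd_assoc]
    exact Over.w v)

theorem bcPoint_fst {V2 : Scheme.{u}} (f : V1 ⟶ S) (q : V2 ⟶ V1) {d : V2 ⟶ S} (hd : q ≫ f = d) {Y : Over V1}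
    {T : Over S} (x : T ⟶ push f Y) (v : T ⟶ Over.mk d) (h : (x ≫ πp f Y).left = v.left ≫ q) :
    bcPoint f q hd x v h ≫ prBC f q hd Y = x :=
  Over.OverMorphism.ext (pullback.lift_fst _ _ _)

theorem bcPoint_snd {V2 : Scheme.{u}} (f : V1 ⟶ S) (q : V2 ⟶ V1) {d : V2 ⟶ S} (hd : q ≫ f = d) {Y : Over V1}
    {T : Over S} (x : T ⟶ push f Y) (v : T ⟶ Over.mk d) (h : (x ≫ πp f Y).left = v.left ≫ q) :
    bcPoint f q hd x v h ≫ πp d (Red.bc q Y) = v :=
  Over.OverMorphism.ext (pullback.lift_snd _ _ _)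

theorem map_πp {f : V1 ⟶ S} {Y Y' : Over V1} (φ : Y ⟶ Y') : (Over.map f).map φ ≫ πp f Y' = πp f Y :=
  Over.OverMorphism.ext (Over.w φ)

theorem prBC_πp {V2 : Scheme.{u}} (f : V1 ⟶ S) (q : V2 ⟶ V1) {d : V2 ⟶ S} (hd : q ≫ f = d) (Y : Over V1) :
    (prBC f q hd Y ≫ πp f Y).left = (πp d (Red.bc q Y)).left ≫ q :=
  pullback.condition

theorem hasFrame_of_desc (h : Desc X j) : HasFrame z hz X j x0 := by
  obtain ⟨P, ⟨e⟩⟩ := h
  set D := fam z hz X x0
  set q1 := pullback.fst p j
  set q2 := pullback.snd p j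
  let d := q2 ≫ j
  let bP := (P.act.bc q2).restrict (ActBC.bcCompIso q2 j G rfl).inv
  let bX := (X.act.bc q1).restrict (ActBC.bcCompIso q1 p G pullback.condition).inv
  let prP : push d (Red.bc q2 P.X) ⟶ push j P.X := prBC j q2 rfl P.X
  let prX : push d (Red.bc q1 X.X) ⟶ push p X.X := prBC p q1 pullback.condition X.X
  let eS : push d (Red.bc q2 P.X) ⟶ push d (Red.bc q1 X.X) := (Over.map d).map e.iso.hom
  let eS' : push d (Red.bc q1 X.X) ⟶ push d (Red.bc q2 P.X) := (Over.map d).map e.iso.inv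
  have e' : bX.act ≫ e.iso.inv = (Red.bc d G ◁ e.iso.inv) ≫ bP.act := by
    rw [Iso.comp_inv_eq, Category.assoc, e.comm, ← Category.assoc, ← MonoidalCategory.whiskerLeft_comp,
      Iso.inv_hom_id, MonoidalCategory.whiskerLeft_id, Category.id_comp]
  let T : Over S := D.T1 ⊗ W0 p j
  let v : T ⟶ W0 p j := snd _ _
  let vz : T ⟶ W0 p j := v ≫ v0 p j ≫ z0 z hz j
  let m0 : T ⟶ push d (Red.bc q1 X.X) := bcPoint p q1 pullback.condition (fst _ _ ≫ D.x1) vz (by
    rw [Category.assoc, show D.x1 ≫ πp p X.X = toUnit _ ≫ zeroPt z hz from D.x1π, comp_toUnit_assoc]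
    show _ = (vz ≫ w0 p j).left
    simp only [vz, Category.assoc, z0_w0, comp_toUnit_assoc])
  let xp : T ⟶ push j P.X := m0 ≫ eS' ≫ prP
  have hxp : (xp ≫ πp j P.X).left = v.left ≫ q2 := by
    simp only [xp, prP, eS', Category.assoc]
    rw [Over.comp_left, Over.comp_left, prBC_πp, ← Category.assoc, ← Category.assoc, ← Over.comp_left,
      ← Over.comp_left, Category.assoc, map_πp, bcPoint_snd]
    show (vz ≫ v0 p j).left = (v ≫ v0 p j).left
    congr 1
    simp only [vz, Category.assoc]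
    rw [show z0 z hz j ≫ v0 p j = 𝟙 _ from Over.OverMorphism.ext (pullback.lift_snd _ _ _), Category.comp_id]
  let m : T ⟶ push d (Red.bc q2 P.X) := bcPoint j q2 rfl xp v hxp
  refine ⟨m ≫ eS ≫ prX, ?_, fun {U} t t' w => ?_⟩
  · refine Over.OverMorphism.ext ?_
    show ((m ≫ eS ≫ prX) ≫ πp p X.X).left = (v ≫ w0 p j).left
    simp only [prX, eS, Category.assoc]
    rw [Over.comp_left, Over.comp_left, prBC_πp, ← Category.assoc, ← Category.assoc, ← Over.comp_left,
      ← Over.comp_left, Category.assoc, map_πp, bcPoint_snd]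
    rfl
  · set g := lift t t' ≫ D.d
    have hv : ∀ t'' : U ⟶ D.T1, lift t'' w ≫ v = w := fun t'' => lift_snd _ _
    have hvz : ∀ t'' : U ⟶ D.T1, lift t'' w ≫ vz = w ≫ v0 p j ≫ z0 z hz j := fun t'' => by
      simp only [vz, ← Category.assoc, hv]
    have h0 : lift t' w ≫ m0 = act (pushAction d bX) g (lift t w ≫ m0) := by
      refine bc_point_ext p q1 pullback.condition X.X ?_ ?_
      · rw [Category.assoc, bcPoint_fst, prBC_act p X.act q1 pullback.condition, Category.assoc, bcPoint_fst,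
          lift_fst_assoc, lift_fst_assoc]
        exact (d_spec D t t').symm
      · rw [Category.assoc, bcPoint_snd, act_πp, Category.assoc, bcPoint_snd, hvz, hvz]
    have h1 : lift t' w ≫ xp = act (pushAction j P.act) g (lift t w ≫ xp) := by
      simp only [xp, eS']
      rw [← Category.assoc, h0, ← Category.assoc, push_map d bP e.iso.inv e', prBC_act j P.act q2 rfl]
      simp only [prP, Category.assoc]
    have h2 : lift t' w ≫ m = act (pushAction d bP) g (lift t w ≫ m) := by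
      refine bc_point_ext j q2 rfl P.X ?_ ?_
      · rw [Category.assoc, bcPoint_fst, prBC_act j P.act q2 rfl, Category.assoc, bcPoint_fst, h1]
      · rw [Category.assoc, bcPoint_snd, act_πp, Category.assoc, bcPoint_snd, hv, hv]
    show lift t' w ≫ m ≫ eS ≫ prX = act (pushAction p X.act) g (lift t w ≫ m ≫ eS ≫ prX)
    rw [← Category.assoc, h2, ← Category.assoc, push_map d bX e.iso.hom e.comm,
      prBC_act p X.act q1 pullback.condition]
    simp only [prX, eS, Category.assoc]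

theorem isLocallyTrivialFor_fpqc {Y : Scheme.{u}} {Z : Over Y}
    (h : NonAbH1.IsLocallyTrivialFor Scheme.fppfPrecoverage Z) :
    NonAbH1.IsLocallyTrivialFor Scheme.fpqcPrecoverage Z := by
  obtain ⟨C, hC, hs⟩ := h
  exact ⟨C, Scheme.fppfPrecoverage_le_fpqcPrecoverage _ hC, hs⟩

variable (hT1 : NonAbH1.IsLocallyTrivialFor Scheme.fpqcPrecoverage (pt s R1))

include hT1 in
theorem desc_of_hasFrame (h : HasFrame z hz X j x0) : Desc X j := by
  obtain ⟨y, hy⟩ := h
  set q1 := pullback.fst p j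
  set q2 := pullback.snd p j
  let d := q2 ≫ j
  let P0 := fibre z hz X
  obtain ⟨F, hFπ, hF⟩ := exists_equivariant (D := fam z hz X x0) P0.act (inc z hz X) x0 rfl
    (fun _ g q => inc_act z hz X g q) (inc_π z hz X) hT1 hy
  let P := P0.bc j
  refine ⟨P, ?_⟩
  let bP := (P.act.bc q2).restrict (ActBC.bcCompIso q2 j G rfl).inv
  let bX := (X.act.bc q1).restrict (ActBC.bcCompIso q1 p G pullback.condition).inv
  let α : push d (Red.bc q2 P.X) ⟶ P0.X := prBC j q2 rfl P.X ≫ prBC₀ j P0.X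
  let v : push d (Red.bc q2 P.X) ⟶ W0 p j := πp d (Red.bc q2 P.X)
  let β : push d (Red.bc q2 P.X) ⟶ push p X.X := lift α v ≫ F
  have hβ : β ≫ πp p X.X = v ≫ w0 p j := by
    show (lift α v ≫ F) ≫ (fam z hz X x0).π = _
    rw [Category.assoc, hFπ, lift_snd_assoc]
  let φ : Red.bc q2 P.X ⟶ Red.bc q1 X.X :=
    Over.homMk (pullback.lift β.left (Red.bc q2 P.X).hom (congrArg Over.Hom.left hβ)) (pullback.lift_snd _ _ _)
  have hφ : (Over.map d).map φ ≫ prBC p q1 pullback.condition X.X = β :=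
    Over.OverMorphism.ext (pullback.lift_fst _ _ _)
  have hequiv : bP.act ≫ φ = (Red.bc d G ◁ φ) ≫ bX.act := by
    refine equivariant_of_push d bX φ fun T g x => bc_point_ext p q1 pullback.condition X.X ?_ ?_
    · rw [Category.assoc (act (pushAction d bP) g x), hφ, prBC_act p X.act q1 pullback.condition,
        Category.assoc x, hφ]
      show act (pushAction d bP) g x ≫ lift α v ≫ F = act (pushAction p X.act) g (x ≫ lift α v ≫ F)
      rw [comp_lift_assoc, comp_lift_assoc,
        show act (pushAction d bP) g x ≫ v = x ≫ v from act_πp d bP g x,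
        show act (pushAction d bP) g x ≫ α = act P0.act g (x ≫ α) by
          simp only [α]
          rw [← Category.assoc, prBC_act j P.act q2 rfl, show P.act = P0.act.bc j from rfl,
            prBC₀_act j P0.act, Category.assoc]]
      exact hF T g (x ≫ α) (x ≫ v)
    · rw [act_πp, Category.assoc (act (pushAction d bP) g x), Category.assoc x, map_πp, act_πp]
  have hP : NonAbH1.IsPseudoTorsorSch bP :=
    isPseudoTorsorSch_restrict (NonAbH1.isPseudoTorsorSch_bc q2 P.isTorsor.1) _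
  have hX : NonAbH1.IsPseudoTorsorSch bX :=
    isPseudoTorsorSch_restrict (NonAbH1.isPseudoTorsorSch_bc q1 X.isTorsor.1) _
  have := Groth.Agent.TorsFpqc.isIso_of_equivariant bP bX hP hX
    (isLocallyTrivialFor_fpqc (NonAbH1.isLocallyTrivialFor_bc q2 Scheme.fppfPrecoverage P.isTorsor.2)) φ hequiv
  exact ⟨⟨asIso φ, hequiv⟩⟩

include hT1 in
/-- A frame on the whole base gives an isomorphism. -/
theorem nonempty_equivIso (y : pt s R1 ⊗ Over.mk p ⟶ push p X.X)
    (hy : IsFrame (fam z hz X x0) (𝟙 (Over.mk p)) y) :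
    ∃ P : NonAbH1.TorsorSch G Scheme.fppfPrecoverage, Nonempty (NonAbH1.EquivIso (P.act.bc p) X.act) := by
  let P0 := fibre z hz X
  obtain ⟨F, hFπ, hF⟩ := exists_equivariant (D := fam z hz X x0) P0.act (inc z hz X) x0 rfl
    (fun _ g q => inc_act z hz X g q) (inc_π z hz X) hT1 hy
  refine ⟨P0, ?_⟩
  let α : push p (Red.bc p P0.X) ⟶ P0.X := prBC₀ p P0.X
  let v : push p (Red.bc p P0.X) ⟶ Over.mk p := πp p _
  let β : push p (Red.bc p P0.X) ⟶ push p X.X := lift α v ≫ F
  have hβ : β ≫ πp p X.X = v := by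
    show (lift α v ≫ F) ≫ (fam z hz X x0).π = _
    rw [Category.assoc, hFπ, lift_snd_assoc]
    exact Category.comp_id _
  let φ : Red.bc p P0.X ⟶ X.X := Over.homMk β.left (congrArg Over.Hom.left hβ)
  have hφ : (Over.map p).map φ = β := Over.OverMorphism.ext rfl
  have hequiv : (P0.act.bc p).act ≫ φ = (Red.bc p G ◁ φ) ≫ X.act.act := by
    refine equivariant_of_push p X.act φ fun T g x => ?_
    rw [hφ]
    show act (pushAction p (P0.act.bc p)) g x ≫ lift α v ≫ F = act (pushAction p X.act) g (x ≫ lift α v ≫ F)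
    rw [comp_lift_assoc, comp_lift_assoc,
      show act (pushAction p (P0.act.bc p)) g x ≫ v = x ≫ v from act_πp p _ g x,
      show act (pushAction p (P0.act.bc p)) g x ≫ α = act P0.act g (x ≫ α) from prBC₀_act p P0.act g x]
    exact hF T g (x ≫ α) (x ≫ v)
  have := Groth.Agent.TorsFpqc.isIso_of_equivariant (P0.act.bc p) X.act
    (NonAbH1.isPseudoTorsorSch_bc p P0.isTorsor.1) X.isTorsor.1
    (isLocallyTrivialFor_fpqc (NonAbH1.isLocallyTrivialFor_bc p Scheme.fppfPrecoverage P0.isTorsor.2)) φ hequiv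
  exact ⟨⟨asIso φ, hequiv⟩⟩

/-- A point of a torsor over a faithfully flat affine cover of an affine base. -/
theorem exists_affine_point (s : Spec (CommRingCat.of R) ⟶ S) [IsIso s] {P : Over S}
    (h : NonAbH1.IsLocallyTrivialFor Scheme.fppfPrecoverage P) :
    ∃ (R1 : Type u) (_ : CommRing R1) (_ : Algebra R R1),
      NonAbH1.IsLocallyTrivialFor Scheme.fpqcPrecoverage (pt s R1) ∧ Nonempty (pt s R1 ⟶ P) := by
  have : IsAffine S := IsAffine.of_isIso (inv s)
  obtain ⟨W, c, hcf, hcs, hcq, ⟨x⟩⟩ :=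
    Groth.Agent.TorsFpqc.exists_local_section (isLocallyTrivialFor_fpqc h) (isAffineOpen_top S)
  haveI := hcf; haveI := hcs; haveI := hcq
  haveI : IsAffine (⊤ : S.Opens).toScheme := isAffineOpen_top S
  have : CompactSpace W := QuasiCompact.compactSpace_of_compactSpace c
  let 𝒰 := W.affineCover.finiteSubcover
  haveI : ∀ i, IsAffine (𝒰.X i) := fun i => inferInstanceAs (IsAffine (W.affineCover.X _))
  let U := ∐ 𝒰.X
  let π : U ⟶ W := Sigma.desc 𝒰.f
  haveI : Flat π := by
    refine IsZariskiLocalAtSource.of_openCover (sigmaOpenCover 𝒰.X) fun k => ?_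
    change Flat (Sigma.ι 𝒰.X k ≫ Sigma.desc 𝒰.f)
    rw [Sigma.ι_desc]
    infer_instance
  haveI : Surjective π := ⟨fun w => by
    obtain ⟨k, u, hu⟩ := 𝒰.exists_eq w
    refine ⟨Sigma.ι 𝒰.X k u, ?_⟩
    rw [← Scheme.Hom.comp_apply, Sigma.ι_desc]
    exact hu⟩
  let c' : U ⟶ S := π ≫ c ≫ (⊤ : S.Opens).ι
  let R1 : Type u := Γ(U, ⊤)
  let φ : CommRingCat.of R ⟶ Γ(U, ⊤) := Spec.preimage (U.isoSpec.inv ≫ c' ≫ inv s)
  letI : Algebra R R1 := φ.hom.toAlgebra
  have hφ : Spec.map (CommRingCat.ofHom (algebraMap R R1)) ≫ s = U.isoSpec.inv ≫ c' := by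
    show Spec.map φ ≫ s = _
    rw [Spec.map_preimage]
    simp
  refine ⟨R1, inferInstance, inferInstance, ?_, ⟨Over.homMk (U.isoSpec.inv ≫ π ≫ x.left) ?_⟩⟩
  · let cc := U.isoSpec.inv ≫ c'
    haveI : IsIso (⊤ : S.Opens).ι := inferInstanceAs (IsIso S.topIso.hom)
    haveI : Flat cc := inferInstance
    haveI : Surjective cc := inferInstance
    haveI : IsAffine U := inferInstance
    haveI : QuasiCompact c' := inferInstance
    haveI : QuasiCompact cc := inferInstance
    refine ⟨Presieve.singleton cc, Scheme.Hom.singleton_mem_fpqcPrecoverage cc, ?_⟩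
    rintro T g ⟨⟩
    exact ⟨𝟙 _, (Category.id_comp _).trans hφ⟩
  · show (U.isoSpec.inv ≫ π ≫ x.left) ≫ P.hom = Spec.map _ ≫ s
    rw [hφ, Category.assoc, Category.assoc, Over.w x]
    rfl

end TorsPatchLib
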